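/-
Hyperbolic spaces over the field of order two, and the geometry of elementary subgroups of
order 64 through a class of involutions.
-/
import Cfsg.Agent.DW.Bridge
import Cfsg.Prelude.Def_Classical

set_option autoImplicit false
set_option linter.unusedSectionVars false

namespace Cfsg.Agent.H4.D4

open Subgroup H97 H15 H8 H4.GF DW

abbrev I (m : ℕ) : Type := Fin m ⊕ Fin m

abbrev W (m : ℕ) : Type := I m → ZMod 2

section W

variable {m : ℕ}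

abbrev fq (u : W m) : ZMod 2 := quadFormPlus m (ZMod 2) u

def bq (u v : W m) : ZMod 2 := ∑ i, (u (.inl i) * v (.inr i) + u (.inr i) * v (.inl i))

def ev (i : I m) : W m := Pi.single i 1

theorem fq_add (u v : W m) : fq (u + v) = fq u + fq v + bq u v := by
  simp only [fq, quadFormPlus, bq, ← Finset.sum_add_distrib, Pi.add_apply]
  exact Finset.sum_congr rfl fun i _ => by ring

theorem bq_comm (u v : W m) : bq u v = bq v u :=
  Finset.sum_congr rfl fun i _ => by ring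

theorem bq_add_left (u v w : W m) : bq (u + v) w = bq u w + bq v w := by
  simp only [bq, ← Finset.sum_add_distrib, Pi.add_apply]
  exact Finset.sum_congr rfl fun i _ => by ring

theorem bq_add_right (u v w : W m) : bq u (v + w) = bq u v + bq u w := by
  rw [bq_comm, bq_add_left, bq_comm v, bq_comm w]

theorem bq_zero_left (u : W m) : bq 0 u = 0 := by simp [bq]

theorem bq_self (u : W m) : bq u u = 0 :=
  Finset.sum_eq_zero fun i _ => by rw [mul_comm, z2_add_self]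

theorem fq_zero : fq (0 : W m) = 0 := by simp [fq, quadFormPlus]

theorem bq_ev (u : W m) (i : I m) : bq u (ev i) = u i.swap := by
  rcases i with i | i <;> simp [bq, ev, Pi.single_apply]

theorem fq_ev (i : I m) : fq (ev i) = 0 := by
  rcases i with i | i <;> simp [fq, quadFormPlus, ev, Pi.single_apply]

theorem ev_ne (i : I m) : ev i ≠ 0 := fun e => by simpa [ev] using congrFun e i

theorem eq_of_bq {u v : W m} (h : ∀ i, bq u (ev i) = bq v (ev i)) : u = v :=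
  funext fun i => by simpa [bq_ev] using h i.swap

theorem exists_ev {u : W m} (h : u ≠ 0) : ∃ i, bq u (ev i) = 1 := by
  by_contra hno
  exact h (eq_of_bq fun i => by
    rw [bq_zero_left]; exact z2_ne_one fun e => hno ⟨i, e⟩)

theorem W_ind {p : W m → Prop} (h0 : p 0) (h1 : ∀ i, p (ev i)) (h2 : ∀ u v, p u → p v → p (u + v))
    (v : W m) : p v := by
  rw [← Finset.univ_sum_single v]
  refine Finset.sum_induction _ p h2 h0 fun i _ => ?_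
  rcases z2c (v i) with e | e <;> rw [e]
  · rw [Pi.single_zero]; exact h0
  · exact h1 i

/-- the singular vectors are generated by the standard basis -/
theorem gen {S : Set (W m)} (h1 : ∀ i, ev i ∈ S)
    (h2 : ∀ u ∈ S, ∀ v ∈ S, u ≠ v → bq u v = 0 → u + v ∈ S) (v : W m) (h0 : v ≠ 0)
    (hv : fq v = 0) : v ∈ S := by
  induction hn : (Finset.univ.filter fun i => v i = 1).card using Nat.strong_induction_on
    generalizing v with
  | _ n ih =>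
  subst hn
  have step : ∀ u ∈ S, ∀ i, fq u = 0 → bq v u = 0 → u i = 1 → (∀ j, u j = 1 → v j = 1) → v ∈ S := by
    intro u hu i fu b ui sub
    by_cases e : v + u = 0
    · rwa [add_eq_zero2.1 e]
    have k : (v + u) i = 0 := by rw [Pi.add_apply, sub i ui, ui]; rfl
    have := h2 _ (ih _ (Finset.card_lt_card ⟨fun j hj => ?_, fun h => ?_⟩) (v + u) e
      (by rw [fq_add, hv, fu, b]; rfl) rfl) u hu (fun f => by rw [f, ui] at k; cases k)
      (by rw [bq_add_left, b, bq_self]; rfl)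
    · rwa [aa''] at this
    · rw [Finset.mem_filter, Pi.add_apply] at hj
      refine Finset.mem_filter.2 ⟨hj.1, ?_⟩
      rcases z2c (u j) with f | f
      · simpa [f] using hj.2
      · exact sub j f
    · have := (Finset.mem_filter.1 (h (Finset.mem_filter.2 ⟨Finset.mem_univ i, sub i ui⟩))).2
      rw [k] at this; cases this
  by_cases hA : ∃ i, v i = 1 ∧ v i.swap = 0
  · obtain ⟨i, a, b⟩ := hA
    exact step _ (h1 i) i (fq_ev i) (by rw [bq_ev, b]) (by simp [ev]) fun j hj => by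
      by_cases e : j = i
      · rwa [e]
      · simp [ev, e] at hj
  have hB : ∀ i, v i = 1 → v i.swap = 1 := fun i a => z2_ne_zero fun b => hA ⟨i, a, b⟩
  obtain ⟨k, hk⟩ : ∃ k, v (.inl k) = 1 := by
    obtain ⟨i, hi⟩ := exists_ev h0
    rw [bq_ev] at hi
    rcases i with i | i
    exacts [⟨i, hB _ hi⟩, ⟨i, hi⟩]
  obtain ⟨l, n, hl⟩ : ∃ l, l ≠ k ∧ v (.inl l) = 1 := by
    by_contra hno
    rw [fq, quadFormPlus, Finset.sum_eq_single k (fun l _ n => by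
      rw [z2_ne_one fun e => hno ⟨l, n, e⟩, zero_mul]) (by simp), hk, show v (.inr k) = 1 from hB _ hk] at hv
    cases hv
  have b0 : bq (ev (.inl k) : W m) (ev (.inl l)) = 0 := by rw [bq_ev]; simp [ev]
  refine step _ (h2 _ (h1 (.inl k)) _ (h1 (.inl l)) (fun e => ?_) b0) (.inl k)
    (by rw [fq_add, fq_ev, fq_ev, b0]; rfl) (by rw [bq_add_right, bq_ev, bq_ev, hB _ hk, hB _ hl]; rfl)
    (by simp [ev, n.symm]) fun j hj => ?_
  · simpa [ev, n.symm] using congrFun e (.inl k)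
  · by_cases e : j = .inl k
    · rwa [e]
    by_cases e' : j = .inl l
    · rwa [e']
    simp [ev, e, e'] at hj

theorem perp2 (c c' : W 3) : ∃ s, s ≠ 0 ∧ fq s = 0 ∧ bq c s = 0 ∧ bq c' s = 0 := by
  obtain ⟨s, h0, h1, h2⟩ : ∃ s : Fin 3 → ZMod 2, s ≠ 0 ∧ ∑ i, c (.inr i) * s i = 0 ∧
      ∑ i, c' (.inr i) * s i = 0 :=
    (by decide +kernel : ∀ a b : Fin 3 → ZMod 2, ∃ s : Fin 3 → ZMod 2, s ≠ 0 ∧ ∑ i, a i * s i = 0 ∧
      ∑ i, b i * s i = 0) _ _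
  exact ⟨Sum.elim s 0, fun e => h0 (funext fun i => congrFun e (.inl i)), by simp [fq, quadFormPlus],
    by simpa [bq] using h1, by simpa [bq] using h2⟩

theorem hyp3 : ∀ c : W 3, fq c = 0 → bq c (ev (.inl 0)) = 1 → bq c (ev (.inr 0)) = 1 →
    ∃ i, bq (ev (.inl 0)) (ev i : W 3) = 0 ∧ bq (ev (.inr 0)) (ev i : W 3) = 0 ∧ bq c (ev i) = 1 := by
  have : ∀ c : W 3, fq c = 0 → bq c (ev (.inl 0)) = 1 ∧ bq c (ev (.inr 0)) = 1 →
    ∃ i, bq (ev (.inl 0)) (ev i : W 3) = 0 ∧ bq (ev (.inr 0)) (ev i : W 3) = 0 ∧ bq c (ev i) = 1 := by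
    decide +kernel
  exact fun c a b d => this c a ⟨b, d⟩

theorem card_sing3 : Nat.card {c : W 3 // c ≠ 0 ∧ fq c = 0} = 35 := by
  rw [Nat.card_eq_fintype_card]; decide +kernel

theorem card_sing4 : Nat.card {c : W 4 // c ≠ 0 ∧ fq c = 0} = 135 := by
  rw [Nat.card_eq_fintype_card]; decide +kernel

end W

universe u

variable {G : Type u} [Group G]

theorem cjs_cjs (g k : G) (A : Subgroup G) : cjs g (cjs k A) = cjs (g * k) A := by
  ext a; simp only [mem_cjs]; rw [mul_inv_rev]; group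

theorem cjs_one (A : Subgroup G) : cjs 1 A = A := by
  ext a; simp [mem_cjs]

theorem cjs_inv {g : G} {A B : Subgroup G} (h : cjs g A = B) : cjs g⁻¹ B = A := by
  rw [← h, cjs_cjs, inv_mul_cancel, cjs_one]

theorem cjs_inj {g : G} {A B : Subgroup G} (h : cjs g A = cjs g B) : A = B :=
  (cjs_inv rfl).symm.trans (cjs_inv h.symm)

/-- coordinates on an elementary subgroup of order 64 -/
structure Co (D : Set G) (Q : G → Subgroup G) (A : Subgroup G) (κ : W 3 → G) : Prop where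
  add : ∀ c c', κ (c + c') = κ c * κ c'
  mem : ∀ c, κ c ∈ A
  surj : ∀ a ∈ A, ∃ c, κ c = a
  inj : ∀ c, κ c = 1 → c = 0
  memD : ∀ c, κ c ∈ D ↔ c ≠ 0 ∧ fq c = 0
  memQ : ∀ c c', κ c' ∈ D → (κ c ∈ Q (κ c') ↔ bq c c' = 0)

namespace Co

variable {D : Set G} {Q : G → Subgroup G} {A : Subgroup G} {κ : W 3 → G} (k : Co D Q A κ)
include k

theorem zero : κ 0 = 1 := by simpa using k.add 0 0

theorem sq {a : G} (ha : a ∈ A) : a * a = 1 := by
  obtain ⟨c, rfl⟩ := k.surj a ha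
  rw [← k.add, aa, k.zero]

theorem comm {a b : G} (ha : a ∈ A) (hb : b ∈ A) : a * b = b * a := by
  obtain ⟨c, rfl⟩ := k.surj a ha
  obtain ⟨d, rfl⟩ := k.surj b hb
  rw [← k.add, ← k.add, add_comm]

theorem inj' {c c' : W 3} (h : κ c = κ c') : c = c' :=
  add_eq_zero2.1 (k.inj _ (by rw [k.add, h, k.sq (k.mem _)]))

theorem evD (i : I 3) : κ (ev i) ∈ D := (k.memD _).2 ⟨ev_ne i, fq_ev i⟩

theorem card : Nat.card A = 64 := by
  rw [← Nat.card_congr (Equiv.ofBijective (fun c => (⟨κ c, k.mem c⟩ : A))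
    ⟨fun c c' h => k.inj' (congrArg Subtype.val h), fun a => by
      obtain ⟨c, e⟩ := k.surj a a.2; exact ⟨c, Subtype.ext e⟩⟩)]
  simp

theorem perp2 {a b : G} (ha : a ∈ A) (hb : b ∈ A) : ∃ s ∈ D, s ∈ A ∧ a ∈ Q s ∧ b ∈ Q s := by
  obtain ⟨c, rfl⟩ := k.surj a ha
  obtain ⟨d, rfl⟩ := k.surj b hb
  obtain ⟨s, h0, h1, h2, h3⟩ := D4.perp2 c d
  have := (k.memD s).2 ⟨h0, h1⟩
  exact ⟨_, this, k.mem s, (k.memQ _ _ this).2 h2, (k.memQ _ _ this).2 h3⟩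

theorem nonperp {a : G} (ha : a ∈ A) (n : a ≠ 1) : ∃ s ∈ D, s ∈ A ∧ a ∉ Q s := by
  obtain ⟨c, rfl⟩ := k.surj a ha
  obtain ⟨i, h⟩ := exists_ev (u := c) fun e => n (by rw [e, k.zero])
  exact ⟨_, k.evD i, k.mem _, fun f => by rw [(k.memQ _ _ (k.evD i)).1 f] at h; cases h⟩

theorem pencil {a b s : G} (ha : a ∈ A) (hb : b ∈ A) (hs : s ∈ D) (h : s ∈ A) :
    a ∈ Q s ∨ b ∈ Q s ∨ a * b ∈ Q s := by
  obtain ⟨c, rfl⟩ := k.surj a ha
  obtain ⟨d, rfl⟩ := k.surj b hb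
  obtain ⟨s, rfl⟩ := k.surj s h
  rw [← k.add, k.memQ _ _ hs, k.memQ _ _ hs, k.memQ _ _ hs, bq_add_left]
  generalize bq c s = x
  generalize bq d s = y
  revert x y; decide

theorem conj (c : Cx D Q) (g : G) : Co D Q (cjs g A) fun x => g * κ x * g⁻¹ where
  add x y := by rw [k.add, conj_mul]
  mem x := conj_mem_cjs.2 (k.mem x)
  surj a ha := by
    obtain ⟨x, e⟩ := k.surj _ (mem_cjs.1 ha)
    exact ⟨x, by rw [e]; group⟩
  inj x h := k.inj x (conj_eq_one_iff.1 h)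
  memD x := by
    rw [← k.memD]
    exact ⟨fun h => by simpa [mul_assoc] using c.conj _ h g⁻¹, fun h => c.conj _ h g⟩
  memQ x y h := by
    rw [c.Q_iff rfl rfl]
    exact k.memQ x y (by simpa [mul_assoc] using c.conj _ h g⁻¹)

end Co

/-- points `P`, lines `D` -/
structure PG (D : Set G) (Q : G → Subgroup G) (P : Set (Subgroup G)) : Prop where
  cx : Cx D Q
  conj : ∀ A ∈ P, ∀ g, cjs g A ∈ P
  trP : ∀ A ∈ P, ∀ B ∈ P, ∃ g, cjs g A = B
  tr : ∀ A ∈ P, ∀ d ∈ D, ∀ e ∈ D, d ∈ A → e ∈ A → ∃ g, cjs g A = A ∧ g * d * g⁻¹ = e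
  co : ∀ A ∈ P, ∃ κ, Co D Q A κ
  co2 : ∀ A ∈ P, ∀ d ∈ D, ∀ e ∈ D, d ∈ A → e ∈ A → e ∉ Q d →
    ∃ κ, Co D Q A κ ∧ κ (ev (.inl 0)) = d ∧ κ (ev (.inr 0)) = e
  three : ∀ d ∈ D, ∃ A : Fin 3 → Subgroup G, Function.Injective A ∧
    ∀ B, B ∈ P ∧ d ∈ B ↔ ∃ x, A x = B
  int : ∀ A ∈ P, ∀ B ∈ P, A ≠ B → ∀ d ∈ D, d ∈ A → d ∈ B → ∀ g ∈ A, g ∈ B → g = 1 ∨ g = d
  adj : ∀ d ∈ D, ∀ e ∈ D, e ∈ Q d → ∃ A ∈ P, d ∈ A ∧ e ∈ A
  sw : ∀ A ∈ P, ∀ B ∈ P, A ≠ B → ∀ d ∈ D, d ∈ A → d ∈ B → ∀ g ∈ A, cjs g B = B → g ∈ Q d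
  pl : ∀ d ∈ D, ∀ d' ∈ D, d' ∈ Q d → d' ≠ d → ∀ A ∈ P, d ∈ A →
    ∃ e ∈ D, e ∈ A ∧ e ∈ Q d ∧ e ∈ Q d' ∧ e ≠ d

/-- collinear (or equal) -/
def Col (D : Set G) (A B : Subgroup G) : Prop := ∃ d ∈ D, d ∈ A ∧ d ∈ B

/-- at distance at most two -/
def Near (D : Set G) (P : Set (Subgroup G)) (A B : Subgroup G) : Prop :=
  ∃ C ∈ P, Col D A C ∧ Col D C B

theorem Col.symm {D : Set G} {A B : Subgroup G} (h : Col D A B) : Col D B A :=
  let ⟨d, h1, h2, h3⟩ := h; ⟨d, h1, h3, h2⟩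

theorem Near.symm {D : Set G} {P : Set (Subgroup G)} {A B : Subgroup G} (h : Near D P A B) :
    Near D P B A :=
  let ⟨C, h1, h2, h3⟩ := h; ⟨C, h1, h3.symm, h2.symm⟩

namespace PG

variable [Finite G] {D : Set G} {Q : G → Subgroup G} {P : Set (Subgroup G)} (p : PG D Q P)
  {A B C S T : Subgroup G} {d e : G}
include p

theorem comm (hA : A ∈ P) {a b : G} (ha : a ∈ A) (hb : b ∈ A) : a * b = b * a :=
  let ⟨_, k⟩ := p.co A hA; k.comm ha hb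

theorem sq (hA : A ∈ P) {a : G} (ha : a ∈ A) : a * a = 1 :=
  let ⟨_, k⟩ := p.co A hA; k.sq ha

theorem col_refl (hA : A ∈ P) : Col D A A :=
  let ⟨_, k⟩ := p.co A hA; ⟨_, k.evD (.inl 0), k.mem _, k.mem _⟩

theorem col_conj (g : G) : Col D (cjs g A) (cjs g B) ↔ Col D A B := by
  have h : ∀ g A B, Col D A B → Col D (cjs g A) (cjs g B) := fun g A B ⟨d, h1, h2, h3⟩ =>
    ⟨_, p.cx.conj d h1 g, conj_mem_cjs.2 h2, conj_mem_cjs.2 h3⟩
  refine ⟨fun k => ?_, h g A B⟩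
  simpa only [cjs_inv rfl] using h g⁻¹ _ _ k

theorem near_conj (g : G) (h : Near D P A B) : Near D P (cjs g A) (cjs g B) :=
  let ⟨C, h1, h2, h3⟩ := h; ⟨_, p.conj C h1 g, (p.col_conj g).2 h2, (p.col_conj g).2 h3⟩

theorem near_of_col (hB : B ∈ P) (h : Col D A B) : Near D P A B := ⟨B, hB, h, p.col_refl hB⟩

/-- two lines meet in at most one point -/
theorem eq_of_two (hA : A ∈ P) (hB : B ∈ P) (hd : d ∈ D) (he : e ∈ D) (n : e ≠ d) (h1 : d ∈ A)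
    (h2 : e ∈ A) (h3 : d ∈ B) (h4 : e ∈ B) : A = B := by
  by_contra h
  exact (p.int A hA B hB h d hd h1 h3 e h2 h4).elim (p.cx.lx e he).ne n

theorem fix_of_two (hA : A ∈ P) (hd : d ∈ D) (he : e ∈ D) (n : e ≠ d) (h1 : d ∈ A)
    (h2 : e ∈ A) {g : G} (c1 : g * d = d * g) (c2 : g * e = e * g) : cjs g A = A :=
  p.eq_of_two (p.conj A hA g) hA hd he n (by rw [mem_cjs, mul_assoc, ← c1]; simpa using h1)
    (by rw [mem_cjs, mul_assoc, ← c2]; simpa using h2) h1 h2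

/-- triangles -/
theorem tri (hA : A ∈ P) (hB : B ∈ P) (n : A ≠ B) (hd : d ∈ D) (h1 : d ∈ A) (h2 : d ∈ B) {a : G}
    (ha : a ∈ A) (he : e ∈ D) (h3 : e ∈ B) (n' : e ≠ d) (c : a * e = e * a) : a ∈ Q d :=
  p.sw A hA B hB n d hd h1 h2 a ha (p.fix_of_two hB hd he n' h2 h3 (p.comm hA ha h1) c)

theorem exists_third (hd : d ∈ D) (A B : Subgroup G) : ∃ C ∈ P, d ∈ C ∧ C ≠ A ∧ C ≠ B := by
  obtain ⟨F, hF, h⟩ := p.three d hd
  by_contra hno
  have k : ∀ x, F x = A ∨ F x = B := fun x => by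
    by_contra h'
    have := (h _).2 ⟨x, rfl⟩
    exact hno ⟨_, this.1, this.2, fun e => h' (Or.inl e), fun e => h' (Or.inr e)⟩
  rcases k 0 with a | a <;> rcases k 1 with b | b <;> rcases k 2 with c | c <;>
    first | cases hF (a.trans b.symm) | cases hF (a.trans c.symm) | cases hF (b.trans c.symm)

theorem four (hd : d ∈ D) (hA : A ∈ P) (hB : B ∈ P) (hC : C ∈ P) (hS : S ∈ P) (h1 : d ∈ A)
    (h2 : d ∈ B) (h3 : d ∈ C) (h4 : d ∈ S) (n1 : A ≠ B) (n2 : A ≠ C) (n3 : B ≠ C) :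
    S = A ∨ S = B ∨ S = C := by
  obtain ⟨F, hF, h⟩ := p.three d hd
  obtain ⟨a, rfl⟩ := (h _).1 ⟨hA, h1⟩
  obtain ⟨b, rfl⟩ := (h _).1 ⟨hB, h2⟩
  obtain ⟨c, rfl⟩ := (h _).1 ⟨hC, h3⟩
  obtain ⟨s, rfl⟩ := (h _).1 ⟨hS, h4⟩
  simp only [Ne, hF.eq_iff] at n1 n2 n3 ⊢
  omega

/-- points on coplanar lines are collinear -/
theorem plane (hS : S ∈ P) (hd : d ∈ D) (he : e ∈ D) (h1 : d ∈ S) (h2 : e ∈ S) (h : d ∈ Q e)
    (hA : A ∈ P) (h3 : e ∈ A) (hB : B ∈ P) (h4 : d ∈ B) : Col D A B := by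
  by_cases n : d = e
  · exact ⟨e, he, h3, n ▸ h4⟩
  by_cases n1 : A = S
  · exact ⟨d, hd, n1 ▸ h1, h4⟩
  by_cases n2 : B = S
  · exact ⟨e, he, h3, n2 ▸ h2⟩
  obtain ⟨f, hf, f1, f2, f3, f4⟩ := p.pl e he d hd h n A hA h3
  have hf' := p.cx.zmul he hf f2 f4
  obtain ⟨T, hT, t1, t2⟩ := p.adj d hd f hf f3
  obtain ⟨U, hU, u1, u2⟩ := p.adj d hd _ hf' ((Q d).mul_mem (p.cx.symm he hd h) f3)
  rcases p.four hd hS hT hU hB h1 t1 u1 h4
    (fun k => n1 (p.eq_of_two hA hS he hf f4 h3 f1 h2 (k ▸ t2)))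
    (fun k => n1 (p.eq_of_two hA hS he hf f4 h3 f1 h2 ((S.mul_mem_cancel_left h2).1 (k ▸ u2))))
    (fun k => n1 (p.eq_of_two hA hS he hf f4 h3 f1 h2 (p.eq_of_two hT hS he hd n
      ((T.mul_mem_cancel_right t2).1 (k ▸ u2)) t1 h2 h1 ▸ t2))) with k | k | k
  · exact absurd k n2
  · exact ⟨f, hf, f1, k ▸ t2⟩
  · exact ⟨_, hf', A.mul_mem h3 f1, k ▸ u2⟩

/-- converse of `plane` -/
theorem copl (hS : S ∈ P) (hd : d ∈ D) (he : e ∈ D) (h1 : d ∈ S) (h2 : e ∈ S)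
    (hA : A ∈ P) (h3 : e ∈ A) (n1 : A ≠ S) (hB : B ∈ P) (h4 : d ∈ B) (n2 : B ≠ S)
    (h : Col D A B) : d ∈ Q e := by
  obtain ⟨f, hf, f1, f2⟩ := h
  by_cases n : f = e
  · by_cases n' : e = d
    · rw [n']; exact (p.cx.lx d hd).mem
    · exact absurd (p.eq_of_two hB hS hd he n' h4 (n ▸ f2) h1 h2) n2
  · exact p.tri hS hA n1.symm he h2 h3 h1 hf f1 n (p.comm hB h4 f2)

theorem gamma (hd : d ∈ D) (hS : S ∈ P) (hT : T ∈ P) (n : S ≠ T) (h1 : d ∈ S) (h2 : d ∈ T)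
    (hA : A ∈ P) (c1 : Col D A S) (c2 : Col D A T) (hB : B ∈ P) (h3 : d ∈ B) : Col D A B := by
  by_cases n1 : A = S
  · exact ⟨d, hd, n1 ▸ h1, h3⟩
  obtain ⟨e, he, e1, e2⟩ := c1
  exact p.plane hS hd he h1 e2 (p.copl hS hd he h1 e2 hA e1 n1 hT h2 n.symm c2) hA e1 hB h3

/-- one or all -/
theorem one (hA : A ∈ P) (hB : B ∈ P) (h : Near D P A B) (hd : d ∈ D) (h1 : d ∈ B) :
    ∃ S ∈ P, d ∈ S ∧ Col D A S := by
  by_cases n : Col D A B
  · exact ⟨B, hB, h1, n⟩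
  have step : ∀ d ∈ D, ∀ d' ∈ D, d ∈ B → d' ∈ Q d → (∃ S ∈ P, d ∈ S ∧ Col D A S) →
      ∃ S ∈ P, d' ∈ S ∧ Col D A S := by
    rintro d hd d' hd' h1 h2 ⟨S, hS, s1, e, he, e1, e2⟩
    by_cases n' : d' = d
    · exact ⟨S, hS, n' ▸ s1, e, he, e1, e2⟩
    obtain ⟨f, hf, f1, f2, f3, f4⟩ := p.pl d hd d' hd' h2 n' S hS s1
    have k : ∀ f ∈ D, f ∈ S → f ∈ Q d' → f ∈ Q e → ∃ S ∈ P, d' ∈ S ∧ Col D A S :=
      fun f hf f1 f2 f3 =>
        let ⟨T, hT, t1, t2⟩ := p.adj d' hd' f hf f2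
        ⟨T, hT, t1, p.plane hS hf he f1 e2 f3 hA e1 hT t2⟩
    obtain ⟨κ, k'⟩ := p.co S hS
    rcases k'.pencil s1 f1 he e2 with m | m | m
    · exact absurd (p.plane hS hd he s1 e2 m hA e1 hB h1) n
    · exact k f hf f1 f3 m
    · exact k _ (p.cx.zmul hd hf f2 f4) (S.mul_mem s1 f1)
        ((Q d').mul_mem (p.cx.symm hd hd' h2) f3) m
  obtain ⟨C, hC, c1, e, he, e1, e2⟩ := h
  obtain ⟨κ, k⟩ := p.co B hB
  obtain ⟨s, hs, s1, s2, s3⟩ := k.perp2 e2 h1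
  exact step s hs d hd s1 s3 (step e he s hs e2 (p.cx.symm hs he s2) ⟨C, hC, e1, c1⟩)

theorem near_trans (hA : A ∈ P) (hB : B ∈ P) (h : Near D P A B) (h' : Near D P B C) :
    Near D P A C := by
  have step : ∀ B ∈ P, ∀ C, Near D P A B → Col D B C → Near D P A C := by
    rintro B hB C h ⟨d, hd, d1, d2⟩
    obtain ⟨S, hS, s1, s2⟩ := p.one hA hB h hd d1
    exact ⟨S, hS, s2, d, hd, s1, d2⟩
  obtain ⟨T, hT, t1, t2⟩ := h'
  exact step T hT C (step B hB T h t1) t2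

/-- an element of `A` that fixes a point opposite to `A` is trivial -/
theorem free (hA : A ∈ P) (hB : B ∈ P) (h : Near D P B A) (n : ¬ Col D B A) {a : G} (ha : a ∈ A)
    (f : cjs a B = B) : a = 1 := by
  by_contra n1
  obtain ⟨κ, k⟩ := p.co A hA
  obtain ⟨d, hd, d1, d2⟩ := k.nonperp ha n1
  obtain ⟨S, hS, s1, s2⟩ := p.one hB hA h hd d1
  refine d2 (p.sw A hA S hS (fun e => n (e ▸ s2)) d hd d1 s1 a ha ?_)
  by_contra n2
  refine n (p.gamma hd (p.conj S hS a) hS n2 ?_ s1 hB ?_ s2 hA d1)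
  · rw [mem_cjs, mul_assoc, k.comm d1 ha]; simpa using s1
  · rw [← f]; exact (p.col_conj a).2 s2

theorem eq_of_mem (hA : A ∈ P) (hB : B ∈ P) (h : Near D P B A) {a : G} (ha : a ∈ A) (hb : a ∈ B)
    (n1 : a ≠ 1) (n2 : a ∉ D) : A = B := by
  by_contra n
  by_cases c : Col D B A
  · obtain ⟨d, hd, d1, d2⟩ := c
    exact (p.int A hA B hB n d hd d2 d1 a ha hb).elim n1 fun e => n2 (e ▸ hd)
  · exact n1 (p.free hA hB h c ha (Subgroup.ext fun x => by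
      rw [mem_cjs, B.mul_mem_cancel_right hb, B.mul_mem_cancel_left (B.inv_mem hb)]))

theorem sep (hA : A ∈ P) (hB : B ∈ P) (n : A ≠ B) : ∃ C ∈ P, Col D C A ∧ ¬ Col D C B := by
  by_cases c : Col D A B
  · obtain ⟨d, hd, d1, d2⟩ := c
    obtain ⟨κ, k⟩ := p.co A hA
    obtain ⟨e, he, e1, e2⟩ := k.nonperp d1 (p.cx.lx d hd).ne
    obtain ⟨C, hC, c1, c2, -⟩ := p.exists_third he A A
    exact ⟨C, hC, ⟨e, he, c1, e1⟩, fun h => e2 (p.copl hA hd he d1 e1 hC c1 c2 hB d2 n.symm h)⟩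
  · exact ⟨A, hA, p.col_refl hA, c⟩

end PG

end Cfsg.Agent.H4.D4
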