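/-
The embedding of the connected geometry in the hyperbolic quadric of dimension eight.
-/
import Cfsg.Agent.H4.D4A
import Cfsg.Agent.H11.POrder
import Cfsg.Agent.S0287

set_option autoImplicit false
set_option linter.unusedSectionVars false

namespace Cfsg.Agent.H4.D4

open Subgroup H97 H15 H8 H4.GF DW Matrix

universe u

variable {G : Type u} [Group G]

theorem card_mul_le_of {X : Type*} [Finite G] {K L : Subgroup G} (h : K ≤ L) (θ : X → G)
    (h1 : ∀ x, θ x ∈ L) (h2 : ∀ x y, (θ x)⁻¹ * θ y ∈ K → x = y) :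
    Nat.card X * Nat.card K ≤ Nat.card L := by
  rw [← Nat.card_prod]
  refine Nat.card_le_card_of_injective (fun x : X × K => (⟨θ x.1 * x.2, L.mul_mem (h1 _) (h x.2.2)⟩ : L)) ?_
  rintro ⟨x, a⟩ ⟨y, b⟩ e
  have e' : θ x * a = θ y * b := congrArg Subtype.val e
  obtain rfl := h2 x y (by
    rw [show (θ x)⁻¹ * θ y = a * (b : G)⁻¹ by rw [eq_mul_inv_of_mul_eq e']; group]
    exact K.mul_mem a.2 (K.inv_mem b.2))
  exact Prod.ext rfl (Subtype.ext (mul_left_cancel e'))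

open Classical in
noncomputable def nn (D : Set G) (A B : Subgroup G) : ZMod 2 := if Col D A B then 0 else 1

theorem nn_zero {D : Set G} {A B : Subgroup G} : nn D A B = 0 ↔ Col D A B := by
  unfold nn; split_ifs with h <;> simp [h]

theorem nn_one {D : Set G} {A B : Subgroup G} : nn D A B = 1 ↔ ¬ Col D A B := by
  unfold nn; split_ifs with h <;> simp [h]

theorem nn_congr {D : Set G} {A B A' B' : Subgroup G} (h : Col D A B ↔ Col D A' B') :
    nn D A B = nn D A' B' := by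
  unfold nn; rw [h]

theorem nn_comm (D : Set G) (A B : Subgroup G) : nn D A B = nn D B A :=
  nn_congr ⟨Col.symm, Col.symm⟩

/-- a pair of opposite points in a connected geometry -/
structure Fr (D : Set G) (Q : G → Subgroup G) (P : Set (Subgroup G)) (A B : Subgroup G)
    (κ : W 3 → G) (φ : W 3 → Subgroup G) : Prop where
  p : PG D Q P
  near : ∀ X ∈ P, ∀ Y ∈ P, Near D P X Y
  hA : A ∈ P
  hB : B ∈ P
  n : ¬ Col D B A
  co : Co D Q A κ
  φP : ∀ c, κ c ∈ D → φ c ∈ P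
  φm : ∀ c, κ c ∈ D → κ c ∈ φ c
  φc : ∀ c, κ c ∈ D → Col D B (φ c)

variable [Finite G] {D : Set G} {Q : G → Subgroup G} {P : Set (Subgroup G)}

theorem PG.exists_fr (p : PG D Q P) (near : ∀ X ∈ P, ∀ Y ∈ P, Near D P X Y) {z : G} (hz : z ∈ D) :
    ∃ A B κ φ, z ∈ A ∧ Fr D Q P A B κ φ := by
  obtain ⟨S, hS, s1, -⟩ := p.exists_third hz ⊥ ⊥
  obtain ⟨A, hA, a1, a2, -⟩ := p.exists_third hz S S
  obtain ⟨B, hB, -, n⟩ := p.sep hS hA a2.symm
  obtain ⟨κ, k⟩ := p.co A hA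
  have : ∀ c, ∃ T, κ c ∈ D → T ∈ P ∧ κ c ∈ T ∧ Col D B T := fun c => by
    by_cases h : κ c ∈ D
    · obtain ⟨T, h1, h2⟩ := p.one hB hA (near _ hB _ hA) h (k.mem c)
      exact ⟨T, fun _ => ⟨h1, h2⟩⟩
    · exact ⟨A, fun h' => absurd h' h⟩
  choose φ h using this
  exact ⟨A, B, κ, φ, a1, p, near, hA, hB, n, k, fun c e => (h c e).1, fun c e => (h c e).2.1,
    fun c e => (h c e).2.2⟩

/-- the frame -/
def frm (A B : Subgroup G) (φ : W 3 → Subgroup G) : I 4 → Subgroup G :=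
  Sum.elim (Fin.cons A fun k => φ (ev (.inl k))) (Fin.cons B fun k => φ (ev (.inr k)))

/-- the coordinates -/
noncomputable def cc (D : Set G) (b : I 4 → Subgroup G) (X : Subgroup G) : W 4 :=
  fun i => nn D X (b i.swap)

/-- the matrix -/
noncomputable def mat (D : Set G) (b : I 4 → Subgroup G) (g : G) : Matrix (I 4) (I 4) (ZMod 2) :=
  Matrix.of fun i j => cc D b (cjs g (b j)) i

theorem mat_ev (b : I 4 → Subgroup G) (g : G) (j : I 4) :
    mat D b g *ᵥ ev j = cc D b (cjs g (b j)) := by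
  funext i; simp [ev, mat]

namespace Fr

variable {A B : Subgroup G} {κ : W 3 → G} {φ : W 3 → Subgroup G} (F : Fr D Q P A B κ φ)
include F

theorem lin {d : G} {X Y Z T : Subgroup G} (hd : d ∈ D) (hX : X ∈ P) (hY : Y ∈ P) (hZ : Z ∈ P)
    (h1 : d ∈ X) (h2 : d ∈ Y) (h3 : d ∈ Z) (n1 : X ≠ Y) (n2 : X ≠ Z) (n3 : Y ≠ Z) (hT : T ∈ P) :
    nn D T Z = nn D T X + nn D T Y := by
  obtain ⟨S, hS, s1, s2⟩ := F.p.one hT hX (F.near _ hT _ hX) hd h1
  have k := F.p.four hd hX hY hZ hS h1 h2 h3 s1 n1 n2 n3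
  have g1 := fun a b => F.p.gamma hd hX hY n1 h1 h2 hT a b hZ h3
  have g2 := fun a b => F.p.gamma hd hX hZ n2 h1 h3 hT a b hY h2
  have g3 := fun a b => F.p.gamma hd hY hZ n3 h2 h3 hT a b hX h1
  have g4 : Col D T X ∨ Col D T Y ∨ Col D T Z := by rcases k with k | k | k <;> simp [← k, s2]
  simp only [← nn_zero] at g1 g2 g3 g4
  revert g1 g2 g3 g4
  generalize nn D T X = a
  generalize nn D T Y = b
  generalize nn D T Z = c
  revert a b c; decide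

theorem φ_ne {c : W 3} (h : κ c ∈ D) : φ c ≠ A := fun e => F.n (e ▸ F.φc c h)

theorem colA {c : W 3} (h : κ c ∈ D) : Col D A (φ c) := ⟨_, h, F.co.mem c, F.φm c h⟩

theorem φ_eq {c : W 3} (h : κ c ∈ D) {T : Subgroup G} (hT : T ∈ P) (h1 : κ c ∈ T) (h2 : Col D B T) :
    T = φ c := by
  by_contra n
  exact F.n (F.p.gamma h hT (F.φP c h) n h1 (F.φm c h) F.hB h2 (F.φc c h) F.hA (F.co.mem c))

theorem exists_φ {T : Subgroup G} (hT : T ∈ P) (h1 : Col D A T) (h2 : Col D B T) :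
    ∃ c, κ c ∈ D ∧ T = φ c := by
  obtain ⟨d, hd, d1, d2⟩ := h1
  obtain ⟨c, rfl⟩ := F.co.surj d d1
  exact ⟨c, hd, F.φ_eq hd hT d2 h2⟩

theorem nn_φ {c c' : W 3} (h : κ c ∈ D) (h' : κ c' ∈ D) : nn D (φ c) (φ c') = bq c c' := by
  have k : Col D (φ c') (φ c) ↔ bq c c' = 0 := by
    rw [← F.co.memQ c c' h']
    exact ⟨F.p.copl F.hA h h' (F.co.mem _) (F.co.mem _) (F.φP _ h') (F.φm _ h') (F.φ_ne h')
      (F.φP _ h) (F.φm _ h) (F.φ_ne h), fun e => F.p.plane F.hA h h' (F.co.mem _) (F.co.mem _) e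
      (F.φP _ h') (F.φm _ h') (F.φP _ h) (F.φm _ h)⟩
  rw [← nn_zero, nn_comm] at k
  revert k
  generalize nn D (φ c) (φ c') = a
  generalize bq c c' = b
  revert a b; decide

theorem frm_mem (i : I 4) : frm A B φ i ∈ P := by
  rcases i with i | i <;> refine Fin.cases ?_ (fun k => ?_) i
  exacts [F.hA, F.φP _ (F.co.evD _), F.hB, F.φP _ (F.co.evD _)]

theorem gram (i j : I 4) : nn D (frm A B φ i) (frm A B φ j) = bq (ev i) (ev j) := by
  have e1 := nn_zero.2 (F.p.col_refl F.hA)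
  have e2 := nn_zero.2 (F.p.col_refl F.hB)
  have e3 := nn_one.2 F.n
  have e4 := (nn_comm D A B).trans e3
  have e5 := fun i => nn_zero.2 (F.colA (F.co.evD i))
  have e6 := fun i => nn_zero.2 (F.φc _ (F.co.evD i))
  have e7 := fun i => (nn_comm D _ A).trans (e5 i)
  have e8 := fun i => (nn_comm D _ B).trans (e6 i)
  have e9 := fun i j => (F.nn_φ (F.co.evD i) (F.co.evD j)).trans (bq_ev _ _)
  rw [bq_ev]
  rcases i with i | i <;> refine Fin.cases ?_ (fun k => ?_) i <;> rcases j with j | j <;>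
    refine Fin.cases ?_ (fun l => ?_) j <;>
    simp only [frm, Sum.elim_inl, Sum.elim_inr, Fin.cons_zero, Fin.cons_succ, e1, e2, e3, e4, e5, e6,
      e7, e8, e9] <;> simp [ev, Pi.single_apply, Fin.succ_ne_zero, (Fin.succ_ne_zero _).symm]

/-- the frame generates the geometry -/
theorem ind {Φ : Subgroup G → Prop} (h1 : ∀ i, Φ (frm A B φ i))
    (h2 : ∀ d ∈ D, ∀ X ∈ P, ∀ Y ∈ P, ∀ Z ∈ P, d ∈ X → d ∈ Y → d ∈ Z → X ≠ Y → X ≠ Z → Y ≠ Z →
      Φ X → Φ Y → Φ Z) : ∀ X ∈ P, Φ X := by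
  have cl : ∀ d ∈ D, ∀ X ∈ P, ∀ Y ∈ P, ∀ Z ∈ P, d ∈ X → d ∈ Y → d ∈ Z → X ≠ Y → Φ X → Φ Y → Φ Z := by
    intro d hd X hX Y hY Z hZ a b c n x y
    by_cases e : X = Z
    · exact e ▸ x
    by_cases e' : Y = Z
    · exact e' ▸ y
    exact h2 d hd X hX Y hY Z hZ a b c n e e' x y
  have s1 : ∀ c, κ c ∈ D → Φ (φ c) := fun c hc => by
    refine (gen (S := {c | κ c ∈ D ∧ Φ (φ c)}) (fun i => ⟨F.co.evD i, ?_⟩) ?_ c
      ((F.co.memD c).1 hc).1 ((F.co.memD c).1 hc).2).2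
    · rcases i with i | i
      exacts [h1 (.inl i.succ), h1 (.inr i.succ)]
    rintro u ⟨hu, u1⟩ v ⟨hv, v1⟩ n b
    have n' : φ u ≠ φ v := fun e => F.φ_ne hu (F.p.eq_of_two (F.φP u hu) F.hA hv hu
      (fun k => n (F.co.inj' k)) (e ▸ F.φm v hv) (F.φm u hu) (F.co.mem _) (F.co.mem _))
    obtain ⟨e, he, e1, e2⟩ := nn_zero.1 ((F.nn_φ hu hv).trans b)
    obtain ⟨T, hT, t1, t2, t3⟩ := F.p.exists_third he (φ u) (φ v)
    have g := fun X hX a b => F.p.gamma (A := X) he (F.φP u hu) (F.φP v hv) n' e1 e2 hX a b hT t1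
    obtain ⟨c, hc, rfl⟩ := F.exists_φ hT (g A F.hA (F.colA hu) (F.colA hv))
      (g B F.hB (F.φc u hu) (F.φc v hv))
    obtain rfl : c = u + v := eq_of_bq fun i => by
      rw [bq_add_left, bq_comm, bq_comm u, bq_comm v, ← F.nn_φ (F.co.evD i) hc,
        ← F.nn_φ (F.co.evD i) hu, ← F.nn_φ (F.co.evD i) hv]
      exact F.lin he (F.φP u hu) (F.φP v hv) hT e1 e2 t1 n' t2.symm t3.symm (F.φP _ (F.co.evD i))
    exact ⟨hc, cl e he _ (F.φP u hu) _ (F.φP v hv) _ hT e1 e2 t1 n' u1 v1⟩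
  have s2 : ∀ X ∈ P, Col D A X → Φ X := by
    rintro X hX ⟨d, hd, d1, d2⟩
    obtain ⟨c, rfl⟩ := F.co.surj d d1
    exact cl _ hd _ F.hA _ (F.φP c hd) _ hX d1 (F.φm c hd) d2 (F.φ_ne hd).symm (h1 (.inl 0)) (s1 c hd)
  have s3 : ∀ X ∈ P, Col D B X → Φ X := by
    rintro X hX ⟨d, hd, d1, d2⟩
    obtain ⟨S, hS, a, b⟩ := F.p.one F.hA F.hB (F.near _ F.hA _ F.hB) hd d1
    exact cl d hd _ F.hB _ hS _ hX d1 a d2 (fun e => F.n (e ▸ b).symm) (h1 (.inr 0)) (s2 S hS b)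
  intro X hX
  by_contra n
  have nA : ¬ Col D A X := fun h => n (s2 X hX h)
  have nB : ¬ Col D B X := fun h => n (s3 X hX h)
  have k : ∀ c, κ c ∈ D → Col D X (φ c) := fun c hc => by
    obtain ⟨S, hS, a, e, he, e1, e2⟩ := F.p.one hX F.hA (F.near _ hX _ F.hA) hc (F.co.mem c)
    obtain ⟨T, hT, t1, t2⟩ := F.p.one F.hB hX (F.near _ F.hB _ hX) he e1
    obtain rfl : S = T := by
      by_contra n'
      exact n (cl e he _ hS _ hT _ hX e2 t1 e1 n' (s2 S hS ⟨_, hc, F.co.mem c, a⟩) (s3 T hT t2))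
    exact F.φ_eq hc hS a t2 ▸ ⟨e, he, e1, e2⟩
  have h0 := F.co.evD (.inl 0)
  have hx := F.φP _ h0
  obtain ⟨e1, he1, a1, b1⟩ := F.colA h0
  obtain ⟨e2, he2, a2, b2⟩ := F.φc _ h0
  obtain ⟨e3, he3, a3, b3⟩ := k _ h0
  obtain ⟨κ', k', rfl, rfl⟩ := F.p.co2 _ hx e1 he1 e2 he2 b1 b2 fun h =>
    F.n (F.p.plane hx he2 he1 b2 b1 h F.hA a1 F.hB a2).symm
  obtain ⟨c, rfl⟩ := k'.surj e3 b3
  obtain ⟨i, i1, i2, i3⟩ := hyp3 c ((k'.memD c).1 he3).2
    (z2_ne_zero fun h => nA (F.p.plane hx he3 he1 b3 b1 ((k'.memQ _ _ he1).2 h) F.hA a1 hX a3))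
    (z2_ne_zero fun h => nB (F.p.plane hx he3 he2 b3 b2 ((k'.memQ _ _ he2).2 h) F.hB a2 hX a3))
  have hi := k'.evD i
  obtain ⟨T, hT, t1, t2, -⟩ := F.p.exists_third hi (φ (ev (.inl 0))) ⊥
  obtain ⟨c', hc', rfl⟩ := F.exists_φ hT
    (F.p.plane hx he1 hi b1 (k'.mem _) ((k'.memQ _ _ hi).2 i1) hT t1 F.hA a1).symm
    (F.p.plane hx he2 hi b2 (k'.mem _) ((k'.memQ _ _ hi).2 i2) hT t1 F.hB a2).symm
  have := (k'.memQ _ _ hi).1 (F.p.copl hx he3 hi b3 (k'.mem _) hT t1 t2 hX a3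
    (fun e => nA (e ▸ F.colA h0)) (k c' hc').symm)
  rw [i3] at this; cases this

theorem cc_frm (j : I 4) : cc D (frm A B φ) (frm A B φ j) = ev j :=
  funext fun i => by rw [cc, F.gram, bq_ev, Sum.swap_swap]

theorem cc_lin {d : G} {X Y Z : Subgroup G} (hd : d ∈ D) (hX : X ∈ P) (hY : Y ∈ P) (hZ : Z ∈ P)
    (h1 : d ∈ X) (h2 : d ∈ Y) (h3 : d ∈ Z) (n1 : X ≠ Y) (n2 : X ≠ Z) (n3 : Y ≠ Z) :
    cc D (frm A B φ) Z = cc D (frm A B φ) X + cc D (frm A B φ) Y := funext fun i => by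
  rw [Pi.add_apply, cc, cc, cc, nn_comm, nn_comm D X, nn_comm D Y]
  exact F.lin hd hX hY hZ h1 h2 h3 n1 n2 n3 (F.frm_mem _)

theorem bq_cc {X : Subgroup G} (hX : X ∈ P) :
    ∀ Y ∈ P, bq (cc D (frm A B φ) X) (cc D (frm A B φ) Y) = nn D X Y :=
  F.ind (fun i => by rw [F.cc_frm, bq_ev, cc, Sum.swap_swap])
    fun d hd U hU Y hY Z hZ a b c n1 n2 n3 e1 e2 => by
      rw [F.cc_lin hd hU hY hZ a b c n1 n2 n3, bq_add_right, e1, e2,
        F.lin hd hU hY hZ a b c n1 n2 n3 hX]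

theorem cc_inj {X Y : Subgroup G} (hX : X ∈ P) (hY : Y ∈ P)
    (h : cc D (frm A B φ) X = cc D (frm A B φ) Y) : X = Y := by
  by_contra n
  obtain ⟨C, hC, c1, c2⟩ := F.p.sep hX hY n
  exact c2 (nn_zero.1 (by rw [← F.bq_cc hC Y hY, ← h, F.bq_cc hC X hX, nn_zero.2 c1]))

theorem fq_cc : ∀ X ∈ P, fq (cc D (frm A B φ) X) = 0 :=
  F.ind (fun i => by rw [F.cc_frm, fq_ev]) fun d hd X hX Y hY Z hZ a b c n1 n2 n3 e1 e2 => by
    rw [F.cc_lin hd hX hY hZ a b c n1 n2 n3, fq_add, e1, e2, F.bq_cc hX Y hY, nn_zero.2 ⟨d, hd, a, b⟩]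
    rfl

theorem cc_surj (v : W 4) (h0 : v ≠ 0) (hv : fq v = 0) : ∃ X ∈ P, cc D (frm A B φ) X = v := by
  refine gen (S := {v | ∃ X ∈ P, cc D (frm A B φ) X = v}) (fun i => ⟨_, F.frm_mem i, F.cc_frm i⟩)
    ?_ v h0 hv
  rintro _ ⟨X, hX, rfl⟩ _ ⟨Y, hY, rfl⟩ n b
  obtain ⟨d, hd, d1, d2⟩ := nn_zero.1 ((F.bq_cc hX Y hY).symm.trans b)
  obtain ⟨Z, hZ, z1, z2, z3⟩ := F.p.exists_third hd X Y
  exact ⟨Z, hZ, F.cc_lin hd hX hY hZ d1 d2 z1 (fun e => n (by rw [e])) z2.symm z3.symm⟩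

theorem mat_cc (g : G) :
    ∀ X ∈ P, mat D (frm A B φ) g *ᵥ cc D (frm A B φ) X = cc D (frm A B φ) (cjs g X) :=
  F.ind (fun i => by rw [F.cc_frm, mat_ev]) fun d hd X hX Y hY Z hZ a b c n1 n2 n3 e1 e2 => by
    rw [F.cc_lin hd hX hY hZ a b c n1 n2 n3, mulVec_add, e1, e2]
    exact (F.cc_lin (F.p.cx.conj d hd g) (F.p.conj X hX g) (F.p.conj Y hY g) (F.p.conj Z hZ g)
      (conj_mem_cjs.2 a) (conj_mem_cjs.2 b) (conj_mem_cjs.2 c) (fun e => n1 (cjs_inj e))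
      (fun e => n2 (cjs_inj e)) fun e => n3 (cjs_inj e)).symm

theorem mat_bq (g : G) (u v : W 4) :
    bq (mat D (frm A B φ) g *ᵥ u) (mat D (frm A B φ) g *ᵥ v) = bq u v := by
  induction u using W_ind with
  | h0 => rw [mulVec_zero, bq_zero_left, bq_zero_left]
  | h2 u w a b => rw [mulVec_add, bq_add_left, bq_add_left, a, b]
  | h1 i =>
    induction v using W_ind with
    | h0 => rw [mulVec_zero, bq_comm, bq_zero_left, bq_comm, bq_zero_left]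
    | h2 u w a b => rw [mulVec_add, bq_add_right, bq_add_right, a, b]
    | h1 j => rw [mat_ev, mat_ev, F.bq_cc (F.p.conj _ (F.frm_mem i) g) _ (F.p.conj _ (F.frm_mem j) g),
        nn_congr (F.p.col_conj g), F.gram]

theorem mat_fq (g : G) (u : W 4) : fq (mat D (frm A B φ) g *ᵥ u) = fq u := by
  induction u using W_ind with
  | h0 => rw [mulVec_zero]
  | h2 u w a b => rw [mulVec_add, fq_add, fq_add, a, b, F.mat_bq]
  | h1 i => rw [mat_ev, F.fq_cc _ (F.p.conj _ (F.frm_mem i) g), fq_ev]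

omit F in
theorem mat_ext {M N : Matrix (I 4) (I 4) (ZMod 2)} (h : ∀ j, M *ᵥ ev j = N *ᵥ ev j) : M = N := by
  ext i j; simpa [ev] using congrFun (h j) i

/-- the representation -/
noncomputable def rep : G →* isometryGroup (ZMod 2) (quadFormPlus 4 (ZMod 2)) :=
  (MonoidHom.toHomUnits
    { toFun := mat D (frm A B φ)
      map_one' := mat_ext fun j => by rw [mat_ev, cjs_one, F.cc_frm, one_mulVec]
      map_mul' := fun g k => mat_ext fun j => by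
        rw [← mulVec_mulVec, mat_ev, mat_ev, F.mat_cc g _ (F.p.conj _ (F.frm_mem j) k), cjs_cjs] }
    ).codRestrict _ fun g u _ => F.mat_fq g u

theorem rep_inj (cd : ∀ g, (∀ d ∈ D, g * d = d * g) → g = 1) : Function.Injective F.rep := by
  refine (injective_iff_map_eq_one _).2 fun g h => cd g fun d hd => ?_
  have e : mat D (frm A B φ) g = 1 := congrArg (fun x => x.1.1) h
  have k : ∀ X ∈ P, cjs g X = X := fun X hX =>
    F.cc_inj (F.p.conj X hX g) hX (by rw [← F.mat_cc g X hX, e, one_mulVec])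
  obtain ⟨X, hX, x1, -⟩ := F.p.exists_third hd ⊥ ⊥
  obtain ⟨Y, hY, y1, y2, -⟩ := F.p.exists_third hd X X
  exact mul_inv_eq_iff_eq_mul.1 ((F.p.int Y hY X hX y2 d hd y1 x1 _ (k Y hY ▸ conj_mem_cjs.2 y1)
    (k X hX ▸ conj_mem_cjs.2 x1)).resolve_left (F.p.cx.lx _ (F.p.cx.conj d hd g)).ne)

theorem card_ge {z : G} (hz : z ∈ D) (hA : z ∈ A) :
    135 * 35 * Nat.card (centralizer ({z} : Set G)) ≤ 3 * Nat.card G := by
  have e1 : ∀ v : {c : W 4 // c ≠ 0 ∧ fq c = 0}, ∃ g, cc D (frm A B φ) (cjs g A) = v := fun v => by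
    obtain ⟨X, hX, e⟩ := F.cc_surj v v.2.1 v.2.2
    obtain ⟨g, rfl⟩ := F.p.trP A F.hA X hX
    exact ⟨g, e⟩
  choose θ h using e1
  have k1 := card_mul_le_of (K := normalizer (A : Set G)) le_top θ (fun _ => mem_top _) fun x y e =>
    Subtype.ext (by rw [← h, ← h, ← mul_inv_cancel_left (θ x) (θ y), ← cjs_cjs,
      show cjs _ A = A from H4.map_conj_eq_iff.2 e])
  have e2 : ∀ v : {c : W 3 // c ≠ 0 ∧ fq c = 0}, ∃ g, cjs g A = A ∧ g * z * g⁻¹ = κ v := fun v =>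
    F.p.tr A F.hA z hz _ ((F.co.memD _).2 v.2) hA (F.co.mem _)
  choose η h' using e2
  have k2 := card_mul_le_of (K := normalizer (A : Set G) ⊓ centralizer {z}) inf_le_left η
    (fun v => H4.map_conj_eq_iff.1 (h' v).1) fun x y e => Subtype.ext (F.co.inj' (by
      rw [← (h' x).2, ← (h' y).2, ← mul_inv_cancel_left (η x) (η y), mul_assoc (η x) _ z,
        mem_centralizer_singleton_iff.1 e.2]; group))
  obtain ⟨T, hT, t⟩ := F.p.three z hz
  have e3 : ∀ g : centralizer ({z} : Set G), ∃ x, T x = cjs (g : G) A := fun g =>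
    (t _).1 ⟨F.p.conj A F.hA g, by rw [mem_cjs, mul_assoc, ← cz_of g]; simpa using hA⟩
  choose ζ h'' using e3
  have k3 := card_le_mul_of_fib (E := normalizer (A : Set G) ⊓ centralizer {z}) ζ fun a b e =>
    ⟨H4.map_conj_eq_iff.1 (by
      change cjs _ A = A
      rw [← cjs_cjs, ← h'', ← e, h'', cjs_inv rfl]), (a⁻¹ * b).2⟩
  rw [card_sing4, card_top] at k1
  rw [card_sing3] at k2
  rw [Nat.card_eq_fintype_card (α := Fin 3), Fintype.card_fin] at k3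
  omega

end Fr

theorem PG.iso (p : PG D Q P) (near : ∀ X ∈ P, ∀ Y ∈ P, Near D P X Y) {z : G} (hz : z ∈ D)
    (hC : 110592 ≤ Nat.card (centralizer ({z} : Set G)))
    (cd : ∀ g, (∀ d ∈ D, g * d = d * g) → g = 1) (hres : pResidual 2 G = ⊤) :
    Nonempty (G ≃* Omega (ZMod 2) (quadFormPlus 4 (ZMod 2))) := by
  have : Fact (Nat.Prime 2) := ⟨Nat.prime_two⟩
  obtain ⟨A, B, κ, φ, hA, F⟩ := p.exists_fr near hz
  have h1 := (H11.nd_qPlus (ZMod 2) 4).index_even rfl (by simp)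
  rw [H11.index_commutator_OG, ← funext (H11.qPlus_eq (ZMod 2) 4)] at h1
  have h2 := (Omega (ZMod 2) (quadFormPlus 4 (ZMod 2))).card_mul_index
  rw [h1, S0287.result (ZMod.card 2) 4 (by norm_num)] at h2
  have h3 : ∀ g, F.rep g ∈ Omega (ZMod 2) (quadFormPlus 4 (ZMod 2)) := fun g =>
    (QuotientGroup.eq_one_iff _).1 (H3.eq_one_of_pResidual_eq_top hres
      ((QuotientGroup.mk' _).comp F.rep) (IsPGroup.of_card (n := 1) h1) g)
  have h4 := F.card_ge hz hA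
  refine ⟨MulEquiv.ofBijective (F.rep.codRestrict _ h3) ((Nat.bijective_iff_injective_and_card _).2
    ⟨fun a b e => F.rep_inj cd (congrArg Subtype.val e), le_antisymm (Nat.card_le_card_of_injective
      (F.rep.codRestrict _ h3) fun a b e => F.rep_inj cd (congrArg Subtype.val e)) ?_⟩)⟩
  generalize Nat.card (Omega (ZMod 2) (quadFormPlus 4 (ZMod 2))) = n at *
  norm_num [Finset.prod_range_succ] at h2
  omega

end Cfsg.Agent.H4.D4
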