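/-
The geometry is connected.
-/
import Cfsg.Agent.H4.D4A
import Cfsg.Agent.CO1.Co1TopA

set_option autoImplicit false
set_option linter.unusedSectionVars false

namespace Cfsg.Agent.H4.D4

open Subgroup H97 H15 H8 H4.GF DW CO1

universe u

variable {G : Type u} [Group G] [Finite G]

theorem trans_mod {K A R : Subgroup G} [R.Normal] (hR : R ≤ A) (hA : A ≤ K)
    (hn : K ≤ normalizer (A : Set G)) (h2 : ∀ a ∈ A, a * a = 1)
    (hti : ∀ a ∈ A, a ∉ R → ∀ y, y * a * y⁻¹ ∈ K → y ∈ K) (hK : K ≠ ⊤) {a b : G} (ha : a ∈ A)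
    (a1 : a ∉ R) (hb : b ∈ A) (b1 : b ∉ R) : ∃ x, a⁻¹ * (x * b * x⁻¹) ∈ R := by
  have hk := QuotientGroup.ker_mk' R
  have hs := QuotientGroup.mk'_surjective R
  generalize QuotientGroup.mk' R = f at hk hs
  have hm : ∀ y, f y ∈ K.map f → y ∈ K := fun y hy => by
    have : y ∈ (K.map f).comap f := hy
    rwa [comap_map_eq_self (hk.le.trans (hR.trans hA))] at this
  obtain ⟨x, -, e⟩ := ct_trans (K := K.map f) (A := A.map f) (map_mono hA) (H70.norm_map f hn)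
    (by rintro _ ⟨a, ha, rfl⟩; rw [← map_mul, h2 a ha, map_one])
    (by
      rintro _ ⟨a, ha, rfl⟩ h1 y hy
      obtain ⟨y, rfl⟩ := hs y
      refine mem_map_of_mem f (hti a ha (fun h => h1 ?_) y (hm _ (by simpa using hy)))
      rwa [← hk] at h)
    (fun e => hK (eq_top_iff.2 fun y _ => hm y (e ▸ mem_top _))) (mem_map_of_mem f hb)
    (fun e => b1 (hk ▸ e)) (mem_map_of_mem f ha) fun e => a1 (hk ▸ e)
  obtain ⟨x, rfl⟩ := hs x
  exact ⟨x, hk ▸ (by simp [MonoidHom.mem_ker, e] : _ ∈ f.ker)⟩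

theorem cent_le {M A : Subgroup G} {O : Set G} (hA : A ≤ M)
    (hc : ∀ a ∈ A, ∀ b ∈ A, a * b = b * a) (h2 : ∀ a ∈ A, a * a = 1) (hcard : Nat.card A = 64)
    (hO : ∀ x ∈ O, ∀ g, g * x * g⁻¹ ∈ O) (h1 : ∀ x ∈ O, x ∈ A → ∀ g, g * x * g⁻¹ ∈ M → g ∈ M)
    (hB : ∀ B : Subgroup G, B ≤ A → 8 ≤ Nat.card B → ∃ x ∈ B, x ∈ O)
    (hN : ∀ a ∈ A, a ≠ 1 → a ∉ O → M ⊓ centralizer {a} ≤ normalizer (A : Set G))
    (hR : ∀ R : Subgroup G, R ≤ A → R ≠ ⊥ → (∀ x ∈ R, x ∉ O) → ∃ a ∈ A, ∃ b ∈ A, ∃ u ∈ R,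
      a ∈ O ∧ u ≠ 1 ∧ b ∈ O ∧ b * u ∈ O ∧ ∀ r ∈ R, a * r ∈ O → r = 1)
    {u : G} (hu : u ∈ A) (hu1 : u ≠ 1) : centralizer {u} ≤ M := by
  by_contra hne
  obtain ⟨R, ⟨RA, R0, RM⟩, hmax⟩ := exists_maximal_of_wellFoundedGT
    (fun R : Subgroup G => R ≤ A ∧ R ≠ ⊥ ∧ ¬ centralizer (R : Set G) ≤ M)
    ⟨zpowers u, zpowers_le.2 hu, by simpa using hu1, by
      rwa [zpowers_eq_closure, centralizer_closure]⟩
  have RO : ∀ x ∈ R, x ∉ O := fun x hx ho => RM fun g hg => h1 x ho (RA hx) g (by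
    rw [← mem_centralizer_iff.1 hg x hx, mul_inv_cancel_right]; exact hA (RA hx))
  obtain ⟨d, hd, hd1⟩ := (R.bot_or_exists_ne_one).resolve_left R0
  obtain ⟨C, hC⟩ : ∃ C, C = centralizer (R : Set G) := ⟨_, rfl⟩
  have AC : A ≤ C := hC ▸ fun a ha => mem_centralizer_iff.2 fun r hr => hc r (RA hr) a ha
  have nA : ∀ g ∈ C, g ∈ M → g ∈ normalizer (A : Set G) := fun g hg hg' =>
    hN d (RA hd) hd1 (RO d hd) ⟨hg', mem_centralizer_singleton_iff.2
      (mem_centralizer_iff.1 (hC ▸ hg) d hd).symm⟩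
  have hti : ∀ a ∈ A, a ∉ R → ∀ y ∈ C, y * a * y⁻¹ ∈ M → y ∈ M := fun a ha haR y hy h => by
    have k1 := ct_card_le hc h2 (t := y * a * y⁻¹) (by
      rw [show (y * a * y⁻¹) * (y * a * y⁻¹) = y * (a * a) * y⁻¹ by group, h2 a ha]; group)
      (nA _ (C.mul_mem (C.mul_mem hy (AC ha)) (C.inv_mem hy)) h)
    obtain ⟨x, ⟨hx, hx'⟩, ho⟩ := hB (A ⊓ centralizer {y * a * y⁻¹}) inf_le_left (by
      by_contra h'
      have := Nat.mul_le_mul (Nat.lt_succ_iff.1 (not_le.1 h')) (Nat.lt_succ_iff.1 (not_le.1 h'))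
      omega)
    have k2 : centralizer ((R ⊔ zpowers a : Subgroup G) : Set G) ≤ M := by
      by_contra h'
      exact haR (hmax ⟨sup_le RA (zpowers_le.2 ha), fun e => R0 (le_bot_iff.1 (e ▸ le_sup_left)),
        h'⟩ le_sup_left (mem_sup_right (mem_zpowers a)))
    refine M.inv_mem_iff.1 (h1 x ho hx _ (k2 ?_))
    rw [H70.cent_sup, ← hC, zpowers_eq_closure, centralizer_closure]
    refine ⟨C.mul_mem (C.mul_mem (C.inv_mem hy) (AC hx)) (C.inv_mem (C.inv_mem hy)),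
      mem_centralizer_singleton_iff.2 ?_⟩
    have e := mem_centralizer_singleton_iff.1 hx'
    rw [show y⁻¹ * x * y⁻¹⁻¹ * a = y⁻¹ * (x * (y * a * y⁻¹)) * y by group, e]
    group
  have : (R.subgroupOf C).Normal :=
    (normal_subgroupOf_iff_le_normalizer (RA.trans AC)).2 (H70.norm_of_cent hC.le)
  obtain ⟨a, ha, b, hb, v, hv, a1, v1, b1, b2, H⟩ := hR R RA R0 RO
  obtain ⟨x, e⟩ := trans_mod (K := M.subgroupOf C) (A := A.subgroupOf C) (R := R.subgroupOf C)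
    (fun _ h => RA h) (fun _ h => hA h)
    (fun g hg => mem_normalizer_iff.2 fun x => mem_normalizer_iff.1 (nA g g.2 hg) x)
    (fun a ha => Subtype.ext (h2 a ha)) (fun a ha haR y hy => hti a ha haR y y.2 hy)
    (fun e => RM (hC ▸ subgroupOf_eq_top.1 e)) (a := ⟨a, AC ha⟩) ha (fun h => RO a h a1)
    (b := ⟨b, AC hb⟩) hb fun h => RO b h b1
  change a⁻¹ * (x * b * (x : G)⁻¹) ∈ R at e
  have e1 := H _ e (by simpa using hO b b1 x)
  refine v1 ?_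
  simpa [e1] using H _ (R.mul_mem e hv) (by
    have := hO _ b2 x
    rwa [← conj_mul, ← mem_centralizer_iff.1 (hC ▸ x.2) v hv, mul_inv_cancel_right,
      ← mul_inv_cancel_left a (x * b * (x : G)⁻¹), mul_assoc] at this)

namespace Co

variable {D : Set G} {Q : G → Subgroup G} {A : Subgroup G} {κ : W 3 → G} (k : Co D Q A κ)
include k

theorem small {R : Subgroup G} (h : R ≤ A) (hD : ∀ x ∈ R, x ∉ D) :
    ∃ u x, u ∈ A ∧ x ∈ A ∧ ∀ r ∈ R, r = 1 ∨ r = u ∨ r = x ∨ r = u * x := by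
  by_contra hno
  have h1 : ∀ u x, u ∈ A → x ∈ A → ∃ r ∈ R, r ≠ 1 ∧ r ≠ u ∧ r ≠ x ∧ r ≠ u * x := fun u x a b => by
    by_contra h'
    refine hno ⟨u, x, a, b, fun r hr => ?_⟩
    by_contra h''
    simp only [not_or] at h''
    exact h' ⟨r, hr, h''⟩
  obtain ⟨u, hu, u1, -⟩ := h1 1 1 A.one_mem A.one_mem
  obtain ⟨x, hx, x1, x2, -⟩ := h1 u u (h hu) (h hu)
  obtain ⟨y, hy, y1, y2, y3, y4⟩ := h1 u x (h hu) (h hx)
  obtain ⟨u, rfl⟩ := k.surj u (h hu)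
  obtain ⟨x, rfl⟩ := k.surj x (h hx)
  obtain ⟨y, rfl⟩ := k.surj y (h hy)
  have f : ∀ c, κ c ∈ R → κ c ≠ 1 → fq c = 1 := fun c hc n => z2_ne_zero fun e =>
    hD _ hc ((k.memD c).2 ⟨fun e => n (by rw [e, k.zero]), e⟩)
  have g : ∀ c c', κ c ∈ R → κ c' ∈ R → κ c' ≠ κ c → fq (c + c') = 1 := fun c c' a b n =>
    f _ (k.add c c' ▸ R.mul_mem a b) fun e => n (by rw [add_eq_zero2.1 (k.inj _ e)])
  have e1 := g u x hu hx x2
  have e2 := g u y hu hy y2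
  have e3 := g x y hx hy y3
  have e4 := g (u + x) y (k.add u x ▸ R.mul_mem hu hx) hy (k.add u x ▸ y4)
  rw [fq_add, e1, bq_add_left] at e4
  rw [fq_add] at e1 e2 e3
  rw [f u hu u1] at e1 e2
  rw [f x hx x1] at e1 e3
  rw [f y hy y1] at e2 e3 e4
  revert e1 e2 e3 e4
  generalize bq u y = a
  generalize bq x y = b
  generalize bq u x = c
  revert a b c; decide

theorem hB (B : Subgroup G) (h : B ≤ A) (h8 : 8 ≤ Nat.card B) : ∃ x ∈ B, x ∈ D := by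
  by_contra hno
  obtain ⟨u, x, -, -, H⟩ := k.small h fun x hx hD => hno ⟨x, hx, hD⟩
  have : Nat.card B ≤ ({1, u, x, u * x} : Set G).ncard :=
    Set.ncard_le_ncard (s := (B : Set G)) (fun r hr => H r hr) (Set.toFinite _)
  have h1 := Set.ncard_insert_le (1 : G) {u, x, u * x}
  have h2 := Set.ncard_insert_le u {x, u * x}
  have h3 := Set.ncard_insert_le x {u * x}
  rw [Set.ncard_singleton] at h3
  omega

theorem hR (c : Cx D Q) (R : Subgroup G) (h : R ≤ A) (h0 : R ≠ ⊥) (hD : ∀ x ∈ R, x ∉ D) :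
    ∃ a ∈ A, ∃ b ∈ A, ∃ u ∈ R, a ∈ D ∧ u ≠ 1 ∧ b ∈ D ∧ b * u ∈ D ∧ ∀ r ∈ R, a * r ∈ D → r = 1 := by
  obtain ⟨u, x, hu, hx, H⟩ := k.small h hD
  obtain ⟨a, a1, a2, a3, a4⟩ := k.perp2 hu hx
  obtain ⟨v, hv, v1⟩ := (R.bot_or_exists_ne_one).resolve_left h0
  obtain ⟨v, rfl⟩ := k.surj v (h hv)
  have v0 : v ≠ 0 := fun e => v1 (by rw [e, k.zero])
  obtain ⟨i, e⟩ := exists_ev v0
  refine ⟨a, a2, _, k.mem (ev i), _, hv, a1, v1, k.evD i, ?_, fun r hr m => ?_⟩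
  · have f := z2_ne_zero fun e => hD _ hv ((k.memD v).2 ⟨v0, e⟩)
    rw [← k.add, k.memD, fq_add, fq_ev, f, bq_comm, e]
    exact ⟨fun g => (by rw [← add_eq_zero2.1 g, fq_ev] at f; cases f), rfl⟩
  · have hq : r ∈ Q a := by
      rcases H r hr with e | e | e | e <;> rw [e]
      exacts [one_mem _, a3, a4, mul_mem a3 a4]
    by_contra n
    have := c.zmul a1 m (mul_mem (c.lx a a1).mem hq) (by simpa using n)
    rw [zz (c.lx a a1)] at this
    exact hD r hr this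

end Co

/-- adjacency -/
abbrev Ad (D : Set G) (Q : G → Subgroup G) : G → G → Prop :=
  Relation.ReflTransGen fun a b => a ∈ D ∧ b ∈ D ∧ b ∈ Q a

section

variable {D : Set G} {Q : G → Subgroup G} (c : Cx D Q) {z : G}
include c

theorem ad_conj (g : G) {a b : G} (h : Ad D Q a b) : Ad D Q (g * a * g⁻¹) (g * b * g⁻¹) := by
  induction h with
  | refl => exact .refl
  | tail _ h ih => exact ih.tail ⟨c.conj _ h.1 g, c.conj _ h.2.1 g, c.Qc g _ _ h.2.2⟩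

theorem ad_symm {a b : G} (h : Ad D Q a b) : Ad D Q b a := by
  induction h with
  | refl => exact .refl
  | tail _ h ih => exact .head ⟨h.2.1, h.1, c.symm h.1 h.2.1 h.2.2⟩ ih

/-- the stabiliser of the connected component -/
def stab (z : G) : Subgroup G where
  carrier := {g | Ad D Q z (g * z * g⁻¹)}
  one_mem' := by simpa using Relation.ReflTransGen.refl
  mul_mem' {g k} hg hk := hg.trans (by simpa [mul_assoc] using ad_conj c g hk)
  inv_mem' {g} hg := ad_symm c (by simpa [mul_assoc] using ad_conj c g⁻¹ hg)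

theorem cent_le_stab {g : G} (h : g * z = z * g) : g ∈ stab c z := by
  change Ad D Q z _
  rw [h, mul_inv_cancel_right]

theorem to_cent (hz : z ∈ D) {w : G} (hw : w ∈ stab c z) (h : w * w = 1) :
    ∃ m ∈ stab c z, m * w * m⁻¹ * z = z * (m * w * m⁻¹) := by
  have : Fact (Nat.Prime 2) := ⟨Nat.prime_two⟩
  have L := c.lx z hz
  obtain ⟨S, hS, h1⟩ := H4.IsSylowIn.exists_le (lx_isPGroup (ex_of_lx L))
    fun q hq => cent_le_stab c (L.cen q hq)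
  obtain ⟨m, hm, e⟩ := hS.exists_conj (Q := zpowers w) (isPGroup_of_sq (by
    rintro _ ⟨n, rfl⟩; simp only; rw [← (Commute.refl w).mul_zpow, h, one_zpow])) (zpowers_le.2 hw)
  exact ⟨m, hm, lx_norm_cent L hS.isPGroup h1 (le_normalizer (e w (mem_zpowers w)))⟩

end

theorem PG.near_of_ad {D : Set G} {Q : G → Subgroup G} {P : Set (Subgroup G)} (p : PG D Q P)
    {z d : G} (h : Ad D Q z d) (hz : z ∈ D) {A : Subgroup G} (hA : A ∈ P) (h1 : z ∈ A) :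
    ∀ B ∈ P, d ∈ B → Near D P A B := by
  induction h with
  | refl => exact fun B hB h2 => p.near_of_col hB ⟨z, hz, h1, h2⟩
  | tail _ h ih =>
    intro B hB h2
    obtain ⟨T, hT, t1, t2⟩ := p.adj _ h.1 _ h.2.1 h.2.2
    exact p.near_trans hA hT (ih T hT t1) (p.near_of_col hB ⟨_, h.2.1, t2, h2⟩)

theorem connected {D : Set G} {Q : G → Subgroup G} (c : Cx D Q) {𝓟 : Set (Set (Subgroup G))}
    (p : ∀ P ∈ 𝓟, PG D Q P)
    (t1 : ∀ d ∈ D, ∀ g, g * g = 1 → g * d = d * g → ∃ e ∈ D, e ∈ Q d ∧ g ∈ Q e)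
    (t2 : ∀ d ∈ D, ∀ a ∈ D, ∀ b ∈ D, a ∈ Q d → b ∈ Q d → a * b = b * a →
      ∃ P ∈ 𝓟, ∃ A ∈ P, a ∈ A ∧ b ∈ A)
    (t3 : ∀ d ∈ D, ∀ w ∈ Q d, w ≠ 1 → w ≠ d → ∃ f ∈ D, f ∈ Q d ∧ f * w = w * f ∧ w ∉ Q f)
    {z : G} (hz : z ∈ D) (g : G) : Ad D Q z (g * z * g⁻¹) := by
  set M := stab c z with hM
  have mM : ∀ g, g ∈ M ↔ Ad D Q z (g * z * g⁻¹) := fun _ => Iff.rfl
  have cM : ∀ g, g * z = z * g → g ∈ M := fun g => cent_le_stab c
  have toQ : ∀ w ∈ M, w * w = 1 → ∃ m ∈ M, m * w * m⁻¹ ∈ Q z := fun w hw h => by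
    obtain ⟨m, hm, e⟩ := to_cent c hz hw h
    obtain ⟨d, hd, d1, d2⟩ := t1 z hz _ (by rw [conj_mul, h]; simp) e
    obtain ⟨k, rfl⟩ := c.trans z hz d hd
    exact ⟨k⁻¹ * m, M.mul_mem (M.inv_mem (.single ⟨hz, hd, d1⟩)) hm,
      (c.Q_iff rfl (by group)).1 d2⟩
  have u0 : ∀ g, g * z * g⁻¹ ∈ M → g ∈ M := fun g h => by
    obtain ⟨m, hm, e⟩ := toQ _ h (c.lx _ (c.conj z hz g)).sq
    exact (M.mul_mem_cancel_left hm).1 (.single ⟨hz, c.conj z hz _, by simpa [mul_assoc] using e⟩)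
  have u1 : ∀ d ∈ D, d ∈ M → ∀ g, g * d * g⁻¹ ∈ M → g ∈ M := fun d hd h g h' => by
    obtain ⟨k, rfl⟩ := c.trans z hz d hd
    exact (M.mul_mem_cancel_right (u0 k h)).1 (u0 _ (by simpa [mul_assoc] using h'))
  have u2 : ∀ w, w * w = 1 → centralizer {w} ≤ M → ∀ g, g * w * g⁻¹ ∈ M → g ∈ M := by
    intro w h hw g h'
    obtain ⟨m, hm, e⟩ := to_cent c hz h' (by rw [conj_mul, h]; simp)
    refine (M.mul_mem_cancel_left hm).1 (M.inv_mem_iff.1 (u0 _ (hw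
      (mem_centralizer_singleton_iff.2 ?_))))
    calc _ = (m * g)⁻¹ * (z * (m * (g * w * g⁻¹) * m⁻¹)) * (m * g) := by group
      _ = _ := by rw [← e]; group
  have u3 : ∀ w, ∀ m ∈ M, centralizer {m * w * m⁻¹} ≤ M → centralizer {w} ≤ M := by
    intro w m hm h y hy
    refine (M.mul_mem_cancel_left hm).1 ((M.mul_mem_cancel_right (M.inv_mem hm)).1
      (h (mem_centralizer_singleton_iff.2 ?_)))
    rw [conj_mul, mem_centralizer_singleton_iff.1 hy, conj_mul]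
  have u4 : ∀ P ∈ 𝓟, ∀ A ∈ P, z ∈ A → ∀ u ∈ A, u ≠ 1 → centralizer {u} ≤ M := by
    intro P hP A hA h u hu n
    obtain ⟨κ, k⟩ := (p P hP).co A hA
    have AM : A ≤ M := fun a ha => cM a (k.comm ha h)
    refine cent_le AM (fun a ha b hb => k.comm ha hb) (fun a ha => k.sq ha) k.card c.conj
      (fun x h1 h2 => u1 x h1 (AM h2)) k.hB (fun a ha a1 a2 y hy => H4.map_conj_eq_iff.1 ?_)
      (k.hR c) hu n
    refine ((p P hP).eq_of_mem hA ((p P hP).conj A hA y) ((p P hP).near_of_ad hy.1 hz hA h _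
      ((p P hP).conj A hA y) (conj_mem_cjs.2 h)).symm ha ?_ a1 a2).symm
    rw [mem_cjs, mul_assoc, ← mem_centralizer_singleton_iff.1 hy.2]; simpa using ha
  have u5 : ∀ f ∈ D, f ∈ M → ∀ v, v ≠ 1 → v * f ∈ D → v * f = f * v → centralizer {v} ≤ M := by
    intro f hf h v n hv e
    obtain ⟨k, rfl⟩ := c.trans z hz f hf
    have hk := u0 k h
    have hv' := c.conj _ hv k⁻¹
    obtain ⟨d, hd, d1, d2⟩ := t1 z hz _ (c.lx _ hv').sq (by
      calc _ = k⁻¹ * (v * (k * z * k⁻¹) * (k * z * k⁻¹)) * k := by group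
        _ = _ := by rw [e, mul_assoc _ v, e]; group)
    obtain ⟨P, hP, A, hA, a1, a2⟩ := t2 d hd z hz _ hv' (c.symm hz hd d1) d2 (by
      calc _ = k⁻¹ * (k * z * k⁻¹ * (v * (k * z * k⁻¹))) * k := by group
        _ = _ := by rw [← mul_assoc _ v, ← e]; group)
    refine u3 v k⁻¹ (M.inv_mem hk) (u4 P hP A hA a1 _ ?_ fun e => n (conj_eq_one_iff.1 e))
    rw [← A.mul_mem_cancel_right a1]
    simpa [mul_assoc] using a2
  have u6 : ∀ w ∈ Q z, w * w = 1 → w ≠ 1 → centralizer {w} ≤ M := by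
    intro w hw h n y hy
    by_cases n' : w = z
    · exact cM y (n' ▸ mem_centralizer_singleton_iff.1 hy)
    obtain ⟨f, hf, f1, f2, f3⟩ := t3 z hz w hw n n'
    have fM := cM f ((c.lx z hz).cen f f1)
    have zw := mem_centralizer_singleton_iff.2 ((c.lx z hz).cen w hw).symm
    rcases ct_dih (Y := centralizer ({w} : Set G)) (u := ⟨f, mem_centralizer_singleton_iff.2 f2⟩)
      (v := ⟨y, hy⟩ * ⟨z, zw⟩ * ⟨y, hy⟩⁻¹) (Subtype.ext (c.lx f hf).sq)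
      (Subtype.ext (c.lx _ (c.conj z hz y)).sq) with ⟨k, e⟩ | ⟨v, v1, v2, v3, v4, k, e⟩
    · exact absurd ((c.Q_iff (congrArg Subtype.val e) (mul_inv_eq_iff_eq_mul.2 (cz_of k))).1
        ((c.Q_iff rfl (mul_inv_eq_iff_eq_mul.2 (mem_centralizer_singleton_iff.1 hy))).2 hw)) f3
    · have e1 : (v : G) * f ∈ D := by
        rcases e with e | e <;> have e' : _ = (v : G) * f := congrArg Subtype.val e <;> rw [← e']
        exacts [c.conj f hf k, c.conj _ (c.conj z hz y) k]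
      have := u5 f hf fM v (fun e => v1 (Subtype.ext e)) e1 (congrArg Subtype.val v3.eq)
      refine M.inv_mem_iff.1 (u2 v (congrArg Subtype.val v2) this _ (cM _ ?_))
      have e2 : (v : G) * (y * z * y⁻¹) = y * z * y⁻¹ * v := congrArg Subtype.val v4.eq
      calc _ = y⁻¹ * (v * (y * z * y⁻¹)) * y := by group
        _ = _ := by rw [e2]; group
  have u7 : ∀ w ∈ M, w * w = 1 → w ≠ 1 → centralizer {w} ≤ M := fun w hw h n => by
    obtain ⟨m, hm, e⟩ := toQ w hw h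
    exact u3 w m hm (u6 _ e (by rw [conj_mul, h]; simp) (by simpa using n))
  obtain ⟨P, hP, A, hA, a1, -⟩ := t2 z hz z hz z hz (c.lx z hz).mem (c.lx z hz).mem rfl
  obtain ⟨κ, k⟩ := (p P hP).co A hA
  have nD : κ (ev (.inl 0) + ev (.inr 0)) ∉ D := fun h => by
    have := ((k.memD _).1 h).2
    revert this; decide
  have n1 : κ (ev (.inl 0) + ev (.inr 0)) ≠ 1 := fun h => by
    have := k.inj _ h
    revert this; decide
  have hu := k.mem (ev (.inl 0) + ev (.inr 0))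
  generalize κ (ev (.inl 0) + ev (.inr 0)) = u at nD n1 hu
  rcases ct_dih (c.lx z hz).sq (v := g * u * g⁻¹) (by rw [conj_mul, k.sq hu]; simp) with
    ⟨y, e⟩ | ⟨v, v1, v2, v3, v4, -⟩
  · have := c.conj _ (c.conj z hz y) g⁻¹
    rw [e] at this
    exact absurd (by simpa [mul_assoc] using this) nD
  · refine M.inv_mem_iff.1 (u2 v v2 (u7 v (cM v v3.eq) v2 v1) _ (u4 P hP A hA a1 u hu n1
      (mem_centralizer_singleton_iff.2 ?_)))
    calc _ = g⁻¹ * (v * (g * u * g⁻¹)) * g := by group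
      _ = _ := by rw [v4.eq]; group

end Cfsg.Agent.H4.D4
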