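/-
The module `Q / ⟨z⟩` of `S₃ × S₃ × S₃` is the tensor cube of the two-dimensional module.
-/
import Cfsg.Agent.DW.Defs

set_option autoImplicit false
set_option linter.unusedSectionVars false

namespace Cfsg.Agent.H4.D4

open H4.GF DW Equiv

abbrev S3 : Type := Perm (Fin 3)

variable {Γ : Type*} {V : Type*} [Group Γ] [AddCommGroup V] [Module (ZMod 2) V]
  [DistribMulAction Γ V] [Finite V] [Finite Γ] {M : QV Γ V} {S : Set V} {E : V → AddSubgroup V}
  {L : V → Subgroup Γ}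

theorem card_L (F : Fu M S E L) {a : V} (ha : a ∈ S) (hc : Nat.card V = 256) :
    8 ≤ Nat.card (L a) := by
  obtain ⟨x, hx⟩ := F.exists_x ha
  have h1 := M.card_perp (E a)
  have h2 := AddSubgroup.card_le_of_le (F.E_le ha)
  have h3 : Nat.card (E a) ≤ 16 := by nlinarith
  have h4 : Nat.card V ≤ Nat.card (L a × E a × ZMod 2) := by
    refine Nat.card_le_card_of_surjective (fun t => t.1 • x + x + t.2.1 + t.2.2 • x) fun v => ?_
    obtain ⟨l, hl, e⟩ := F.surj a ha x (v + M.B v a • x) hx (by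
      rw [B_add_left, B_smul_left, hx, mul_one, z2_add_self])
    exact ⟨(⟨l, hl⟩, ⟨_, e⟩, M.B v a), by simp only [Subgroup.mk_smul, aa', aa'']⟩
  rw [Nat.card_prod, Nat.card_prod, Nat.card_zmod, hc] at h4
  nlinarith

theorem s3_fix (P : Subgroup S3) (h : ∀ s ∈ P, s * s = 1) : ∃ x, ∀ s ∈ P, s x = x := by
  by_cases h1 : ∀ s ∈ P, s = 1
  · exact ⟨0, fun s hs => by rw [h1 s hs]; rfl⟩
  obtain ⟨s, hs, n⟩ : ∃ s ∈ P, s ≠ 1 := by simpa using h1
  obtain ⟨x, hx⟩ := (by decide : ∀ s : S3, s * s = 1 → s ≠ 1 →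
    ∃ x, ∀ t : S3, t * t = 1 ∧ s * t * (s * t) = 1 → t x = x) s (h s hs) n
  exact ⟨x, fun t ht => hx t ⟨h t ht, h _ (P.mul_mem hs ht)⟩⟩

theorem exists_stab (F : Fu M S E L) (ε : Γ ≃* S3 × S3 × S3) {a : V} (ha : a ∈ S)
    (hc : Nat.card V = 256) :
    ∃ x y u, ∀ g, g ∈ L a ↔ (ε g).1 x = x ∧ (ε g).2.1 y = y ∧ (ε g).2.2 u = u := by
  have k : ∀ φ : S3 × S3 × S3 →* S3, ∃ x, ∀ g ∈ L a, φ (ε g) x = x := fun φ => by
    obtain ⟨x, hx⟩ := s3_fix ((L a).map (φ.comp ε.toMonoidHom)) (by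
      rintro _ ⟨g, hg, rfl⟩; rw [← map_mul, F.sq a ha g hg, map_one])
    exact ⟨x, fun g hg => hx _ ⟨g, hg, rfl⟩⟩
  obtain ⟨x, hx⟩ := k (MonoidHom.fst _ _)
  obtain ⟨y, hy⟩ := k ((MonoidHom.fst _ _).comp (MonoidHom.snd _ _))
  obtain ⟨u, hu⟩ := k ((MonoidHom.snd _ _).comp (MonoidHom.snd _ _))
  have h8 : Nat.card {s : S3 × S3 × S3 // s.1 x = x ∧ s.2.1 y = y ∧ s.2.2 u = u} = 8 := by
    rw [Nat.card_eq_fintype_card]; clear hx hy hu; revert x y u; decide +kernel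
  have b := (Nat.bijective_iff_injective_and_card (fun g : L a =>
    (⟨ε g, hx g g.2, hy g g.2, hu g g.2⟩ : {s : S3 × S3 × S3 // s.1 x = x ∧ s.2.1 y = y ∧ s.2.2 u = u}))).2
  have i : Function.Injective (fun g : L a =>
    (⟨ε g, hx g g.2, hy g g.2, hu g g.2⟩ : {s : S3 × S3 × S3 // s.1 x = x ∧ s.2.1 y = y ∧ s.2.2 u = u})) :=
    fun g k e => Subtype.ext (ε.injective (congrArg Subtype.val e))
  refine ⟨x, y, u, fun g => ⟨fun hg => ⟨hx g hg, hy g hg, hu g hg⟩, fun hg => ?_⟩⟩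
  obtain ⟨k, e⟩ := (b ⟨i, le_antisymm (Nat.card_le_card_of_injective _ i) (h8 ▸ card_L F ha hc)⟩).2 ⟨ε g, hg⟩
  exact ε.injective (congrArg Subtype.val e) ▸ k.2

theorem mix (F : Fu M S E L) {a : V} (ha : a ∈ S) {t l l' : Γ} (t3 : t * t * t = 1) (t1 : t ≠ 1)
    (tn : ∀ g, g * t = t * g ∨ g * t = t * t * g) (hl : l ∈ L a) (e : l * t = t * t * l)
    (hl' : l' ∈ L a) (n1 : l' ≠ 1) (n2 : l' ≠ l) : t • t • a + t • a + a = 0 := by
  by_contra n
  have t3' : ∀ v : V, t • t • t • v = v := fun v => by rw [← mul_smul, ← mul_smul, t3, one_smul]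
  let U : AddSubgroup V :=
    { carrier := {v | t • t • v + t • v + v = 0}
      zero_mem' := by simp
      add_mem' := fun {u v} hu hv => by
        change _ = _ at hu hv ⊢
        rw [smul_add, smul_add, show t • t • u + t • t • v + (t • u + t • v) + (u + v) =
          (t • t • u + t • u + u) + (t • t • v + t • v + v) by abel, hu, hv, add_zero]
      neg_mem' := fun h => by rwa [neg2] }
  have mU : ∀ v, v ∈ U ↔ t • t • v + t • v + v = 0 := fun _ => Iff.rfl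
  have hU : Inv Γ U := fun g v hv => by
    have := congrArg (g • ·) ((mU v).1 hv)
    simp only [smul_add, smul_zero, smul_smul] at this
    rw [mU, smul_smul, smul_smul, smul_smul]
    rcases tn g with f | f
    · rwa [← mul_assoc, f, mul_assoc, f, ← mul_assoc] at this
    · rwa [← mul_assoc, f, mul_assoc, f, ← mul_assoc, ← mul_assoc, t3, one_mul,
        add_comm ((t * g) • v)] at this
  have h1 : ∀ v, v + (t • t • v + t • v + v) ∈ U := fun v => by
    rw [mU, add_comm v, aa'']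
    simp only [smul_add, t3']
    rw [show t • v + v + (v + t • t • v) + (t • t • v + t • v) =
      (t • v + t • v) + (v + v) + (t • t • v + t • t • v) by abel]; simp only [aa]
  have h2 : ∀ v, ∀ u ∈ U, M.B (t • t • v + t • v + v) u = 0 := fun v u hu => by
    rw [B_add_left, B_add_left, ← M.B_smul t (t • t • v), t3', ← M.B_smul t (t • v),
      ← M.B_smul t (t • t • v), t3', ← map_add, ← map_add, add_comm (t • u), hu, map_zero]
  have h3 : ∀ k ∈ L a, ∀ u ∈ U, M.B u a = 0 → k • u = u := fun k hk u hu b =>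
    add_eq_zero2.1 (F.eq_zero ha hU n (hU.cm k hu) (F.E_le ha (F.perp a ha k hk u b)))
  have h4 : ∀ u ∈ U, M.B u (a + (t • t • a + t • a + a)) = M.B u a := fun u hu => by
    rw [map_add, M.B_comm u (_ + _), h2 a u hu, add_zero]
  by_cases h0 : a + (t • t • a + t • a + a) = 0
  · have h5 : ∀ u ∈ U, u = 0 := fun u hu => by
      have k : ∀ u ∈ U, l • u = u := fun u hu => h3 l hl u hu (by rw [← h4 u hu, h0, map_zero])
      have := k _ (hU t u hu)
      rw [← mul_smul, e, mul_smul, mul_smul, k u hu] at this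
      rwa [mU, this, aa, zero_add] at hu
    refine t1 (M.faith t fun v => ?_)
    have := h5 _ (h1 v)
    rwa [add_comm v, aa'', add_eq_zero2, smul_left_cancel_iff] at this
  obtain ⟨q, hq⟩ := M.exists_B h0
  have hq1 : M.B (q + (t • t • q + t • q + q)) a = 1 := by
    rw [← h4 _ (h1 q), B_add_left, hq, h2 q _ (h1 a), add_zero]
  have m := h1 q
  generalize q + (t • t • q + t • q + q) = q at hq1 m
  have h5 : ∀ k ∈ L a, k ≠ 1 → k • q + q = a + (t • t • a + t • a + a) := fun k hk n => by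
    refine (perp1 M fun y hy => ?_).resolve_left fun e =>
      n (F.inj a ha k hk q hq1 (e ▸ (E a).zero_mem))
    have := M.adj0 q (h3 k hk _ (h1 y) (by rw [← h4 _ (h1 y), B_add_left, hy, h2 y _ (h1 a), add_zero]))
    rwa [M.B_comm, B_add_left, h2 y _ (hU.cm k m), add_zero] at this
  have l1 : l ≠ 1 := by rintro rfl; exact t1 (by simpa using e.symm)
  refine n2 (inv_mul_eq_one.1 (F.inj a ha _ ((L a).mul_mem ((L a).inv_mem hl') hl) q hq1 ?_))
  rw [mul_smul, add_right_cancel ((h5 l hl l1).trans (h5 l' hl' n1).symm), inv_smul_smul, aa]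
  exact (E a).zero_mem

/-- pure tensors -/
structure TM (M : QV Γ V) (S : Set V) (E : V → AddSubgroup V) (L : V → Subgroup Γ)
    (ε : Γ ≃* S3 × S3 × S3) (p : Fin 3 → Fin 3 → Fin 3 → V) : Prop where
  fu : Fu M S E L
  hc : Nat.card V = 256
  smul : ∀ g x y u, g • p x y u = p ((ε g).1 x) ((ε g).2.1 y) ((ε g).2.2 u)
  add1 : ∀ y u, ∑ x, p x y u = 0
  add2 : ∀ x u, ∑ y, p x y u = 0
  add3 : ∀ x y, ∑ u, p x y u = 0
  mem : ∀ x y u, p x y u ∈ S
  memL : ∀ x y u g, g ∈ L (p x y u) ↔ (ε g).1 x = x ∧ (ε g).2.1 y = y ∧ (ε g).2.2 u = u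

theorem sum_rot {f : Fin 3 → V} {x : Fin 3}
    (h : f (finRotate 3 (finRotate 3 x)) + f (finRotate 3 x) + f x = 0) : ∑ x, f x = 0 := by
  rw [Fin.sum_univ_three, ← h]
  fin_cases x
  · change _ = f 2 + f 1 + f 0; abel
  · change _ = f 0 + f 2 + f 1; abel
  · change _ = f 1 + f 0 + f 2; abel

theorem exists_TM (F : Fu M S E L) (ε : Γ ≃* S3 × S3 × S3) {a : V} (ha : a ∈ S)
    (hc : Nat.card V = 256) : ∃ p, TM M S E L ε p := by
  obtain ⟨x, y, u, h⟩ := exists_stab F ε ha hc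
  let p : Fin 3 → Fin 3 → Fin 3 → V := fun x' y' u' => ε.symm (swap x x', swap y y', swap u u') • a
  have sm : ∀ g x y u, g • p x y u = p ((ε g).1 x) ((ε g).2.1 y) ((ε g).2.2 u) := by
    intro g x' y' u'
    refine inv_smul_eq_iff.1 ?_
    rw [smul_smul, smul_smul]
    exact F.fix a ha _ ((h _).2 (by simp))
  have p0 : p x y u = a := F.fix a ha _ ((h _).2 (by simp))
  have hl : ∀ s : S3 × S3 × S3, s.1 x = x → s.2.1 y = y → s.2.2 u = u → ε.symm s ∈ L a :=
    fun s a b c => (h _).2 (by simpa using ⟨a, b, c⟩)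
  have key : ∀ t l l' : S3 × S3 × S3, t * t * t = 1 → t ≠ 1 → (∀ g, g * t = t * g ∨ g * t = t * t * g) →
      ε.symm l ∈ L a → l * t = t * t * l → ε.symm l' ∈ L a → l' ≠ 1 → l' ≠ l →
      p (t.1 (t.1 x)) (t.2.1 (t.2.1 y)) (t.2.2 (t.2.2 u)) + p (t.1 x) (t.2.1 y) (t.2.2 u) + p x y u = 0 := by
    intro t l l' t3 t1 tn h1 e h2 n1 n2
    have := mix F ha (t := ε.symm t) (by rw [← map_mul, ← map_mul, t3, map_one])
      (by simpa using t1) (fun g => by
        simpa only [← ε.symm.injective.eq_iff, map_mul, ε.symm_apply_apply] using tn (ε g)) h1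
      (by simp only [← map_mul, e]) h2 (by simpa using n1) (by simpa using n2)
    rw [← p0] at this
    simpa only [sm, ε.apply_symm_apply] using this
  have c0 : ∀ g : S3, g * finRotate 3 = finRotate 3 * g ∨
      g * finRotate 3 = finRotate 3 * finRotate 3 * g := by decide
  have c1 : ∀ x : Fin 3, ∃ s : S3, s x = x ∧ s ≠ 1 ∧ s * finRotate 3 = finRotate 3 * finRotate 3 * s := by
    decide
  obtain ⟨s1, a1, b1, d1⟩ := c1 x
  obtain ⟨s2, a2, b2, d2⟩ := c1 y
  obtain ⟨s3, a3, b3, d3⟩ := c1 u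
  have k1 := key (finRotate 3, 1, 1) (s1, 1, 1) (1, s2, 1) (by decide) (by decide)
    (fun g => by simpa [Prod.ext_iff] using c0 g.1) (hl _ a1 rfl rfl) (by simpa using d1)
    (hl _ rfl a2 rfl) (by simp [Prod.ext_iff, b2]) (by simp [b2])
  have k2 := key (1, finRotate 3, 1) (1, s2, 1) (s1, 1, 1) (by decide) (by decide)
    (fun g => by simpa [Prod.ext_iff] using c0 g.2.1) (hl _ rfl a2 rfl) (by simpa using d2)
    (hl _ a1 rfl rfl) (by simp [Prod.ext_iff, b1]) (by simp [b1])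
  have k3 := key (1, 1, finRotate 3) (1, 1, s3) (s1, 1, 1) (by decide) (by decide)
    (fun g => by simpa [Prod.ext_iff] using c0 g.2.2) (hl _ rfl rfl a3) (by simpa using d3)
    (hl _ a1 rfl rfl) (by simp [Prod.ext_iff, b1]) (by simp [b1])
  refine ⟨p, F, hc, sm, fun y' u' => ?_, fun x' u' => ?_, fun x' y' => ?_,
    fun _ _ _ => F.smul _ a ha, fun x' y' u' g => ?_⟩
  · simpa [Finset.smul_sum, sm] using
      congrArg (ε.symm (1, swap y y', swap u u') • ·) (sum_rot (f := fun x => p x y u) k1)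
  · simpa [Finset.smul_sum, sm] using
      congrArg (ε.symm (swap x x', 1, swap u u') • ·) (sum_rot (f := fun y => p x y u) k2)
  · simpa [Finset.smul_sum, sm] using
      congrArg (ε.symm (swap x x', swap y y', 1) • ·) (sum_rot (f := fun u => p x y u) k3)
  · have := h ((ε.symm (swap x x', swap y y', swap u u'))⁻¹ * g * ε.symm (swap x x', swap y y', swap u u'))
    simp only [map_mul, map_inv, ε.apply_symm_apply, Prod.fst_mul, Prod.snd_mul, Prod.fst_inv,
      Prod.snd_inv, Perm.mul_apply, swap_apply_left, swap_inv, swap_apply_eq_iff] at this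
    rw [← this]
    exact ⟨fun k => by simpa [p] using F.eqL (ε.symm (swap x x', swap y y', swap u u'))⁻¹ _ (F.smul _ a ha) g k,
      fun k => by simpa [mul_assoc] using F.eqL (ε.symm (swap x x', swap y y', swap u u')) a ha _ k⟩

/-- interchange of the first two factors -/
def sw12 : S3 × S3 × S3 ≃* S3 × S3 × S3 :=
  ⟨⟨fun s => (s.2.1, s.1, s.2.2), fun s => (s.2.1, s.1, s.2.2), fun _ => rfl, fun _ => rfl⟩,
    fun _ _ => rfl⟩

/-- interchange of the first and the last factor -/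
def sw13 : S3 × S3 × S3 ≃* S3 × S3 × S3 :=
  ⟨⟨fun s => (s.2.2, s.2.1, s.1), fun s => (s.2.2, s.2.1, s.1), fun _ => rfl, fun _ => rfl⟩,
    fun _ _ => rfl⟩

theorem sum3 {f : Fin 3 → V} (h : ∑ x, f x = 0) {x y w : Fin 3} (n1 : x ≠ y) (n2 : x ≠ w)
    (n3 : y ≠ w) : f x + f y = f w := by
  rw [← add_eq_zero2, ← h, ← Finset.sum_pair n1, add_comm, ← Finset.sum_insert (by simp [n2.symm, n3.symm])]
  congr 1
  revert x y w; decide

theorem exists_sw (x : Fin 3) : ∃ s : S3, s x = x ∧ ∀ y, y ≠ x → s y ≠ x ∧ s y ≠ y := by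
  revert x; decide

namespace TM

variable {ε : Γ ≃* S3 × S3 × S3} {p : Fin 3 → Fin 3 → Fin 3 → V} (T : TM M S E L ε p)
include T

theorem s12 : TM M S E L (ε.trans sw12) fun x y u => p y x u :=
  ⟨T.fu, T.hc, fun g x y u => T.smul g y x u, T.add2, T.add1, fun x y => T.add3 y x,
    fun x y u => T.mem y x u, fun x y u g => (T.memL y x u g).trans and_left_comm⟩

theorem s13 : TM M S E L (ε.trans sw13) fun x y u => p u y x :=
  ⟨T.fu, T.hc, fun g x y u => T.smul g u y x, fun y u => T.add3 u y, fun x u => T.add2 u x,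
    fun x y => T.add1 y x, fun x y u => T.mem u y x, fun x y u g => (T.memL u y x g).trans
      ⟨fun h => ⟨h.2.2, h.2.1, h.1⟩, fun h => ⟨h.2.2, h.2.1, h.1⟩⟩⟩

theorem smul' (s : S3 × S3 × S3) (x y u : Fin 3) :
    ε.symm s • p x y u = p (s.1 x) (s.2.1 y) (s.2.2 u) := by
  rw [T.smul, ε.apply_symm_apply]

theorem cm1 {s : S3} {x x' : Fin 3} (n : x' ≠ x) (h : s x' ≠ x ∧ s x' ≠ x') (y u : Fin 3) :
    ε.symm (s, 1, 1) • p x' y u + p x' y u = p x y u := by
  rw [T.smul']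
  exact sum3 (f := fun x => p x y u) (T.add1 y u) h.2 h.1 n

theorem perp_fix {x y u : Fin 3} {v : V} (h : ∀ s : S3, s x = x → ε.symm (s, 1, 1) • v = v) :
    M.B (p x y u) v = 0 := by
  obtain ⟨s, s1, s2⟩ := exists_sw x
  obtain ⟨x', n⟩ := exists_ne x
  rw [← T.cm1 n (s2 x' n)]
  exact M.adj0 _ (h s s1)

theorem B1 (x y u y' u' : Fin 3) : M.B (p x y u) (p x y' u') = 0 :=
  T.perp_fix fun s h => by rw [T.smul', h]; rfl

theorem B_ne {x y u x' y' u' : Fin 3} (n1 : x' ≠ x) (n2 : y' ≠ y) (n3 : u' ≠ u) :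
    M.B (p x y u) (p x' y' u') = 1 := by
  have ha := T.mem x y u
  obtain ⟨q, hq⟩ := T.fu.exists_x ha
  obtain ⟨s1, a1, b1⟩ := exists_sw x
  obtain ⟨s2, a2, b2⟩ := exists_sw y
  obtain ⟨s3, a3, b3⟩ := exists_sw u
  have l1 : ε.symm (s1, 1, 1) ∈ L (p x y u) := (T.memL _ _ _ _).2 (by simpa using a1)
  have l2 : ε.symm (1, s2, 1) ∈ L (p x y u) := (T.memL _ _ _ _).2 (by simpa using a2)
  have l3 : ε.symm (1, 1, s3) ∈ L (p x y u) := (T.memL _ _ _ _).2 (by simpa using a3)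
  have e := T.fu.cen ha l1 hq (T.fu.E_le ha (T.fu.perp _ ha _ l2 _
    (cm_perp M (T.fu.fix _ ha _ l3) q)))
  have k := T.fu.adj ha l1 (ε.symm (1, s2, 1) • (ε.symm (1, 1, s3) • q + q) + (ε.symm (1, 1, s3) • q + q))
    (p x' y' u')
  have k2 : ε.symm (1, s2, 1) • p x y' u' + p x y' u' = p x y u' := T.s12.cm1 n2 (b2 _ n2) x u'
  have k3 : ε.symm (1, 1, s3) • p x y u' + p x y u' = p x y u := T.s13.cm1 n3 (b3 _ n3) y x
  rw [T.cm1 n1 (b1 _ n1), T.fu.adj ha l2, k2, T.fu.adj ha l3, k3, hq, e, add_comm, aa',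
    B_smul_left] at k
  exact z2_ne_zero fun h => by rw [h, mul_zero] at k; cases k

theorem B_eq (x y u x' y' u' : Fin 3) :
    M.B (p x y u) (p x' y' u') = if x' ≠ x ∧ y' ≠ y ∧ u' ≠ u then 1 else 0 := by
  split_ifs with h
  · exact T.B_ne h.1 h.2.1 h.2.2
  by_cases e1 : x' = x
  · rw [e1, T.B1]
  by_cases e2 : y' = y
  · rw [e2]; exact T.s12.B1 y x u x' u'
  · rw [not_not.1 fun e3 => h ⟨e1, e2, e3⟩]; exact T.s13.B1 u y x y' x'

theorem f_eq (x y u : Fin 3) : M.f (p x y u) = 0 := T.fu.f_eq (T.mem x y u)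

theorem memE1 (x y u x' : Fin 3) : p x' y u ∈ E (p x y u) := by
  obtain ⟨s, a, b⟩ := exists_sw y
  obtain ⟨y', n⟩ := exists_ne y
  have k : ε.symm (1, s, 1) • p x' y' u + p x' y' u = p x' y u := T.s12.cm1 n (b _ n) x' u
  rw [← k]
  exact T.fu.perp _ (T.mem x y u) _ ((T.memL _ _ _ _).2 (by simpa using a)) _ (by simp [T.B_eq])

theorem E_iff {x y u : Fin 3} {e : V} : e ∈ E (p x y u) ↔ (∀ x', M.B e (p x' y u) = 0) ∧
    (∀ y', M.B e (p x y' u) = 0) ∧ ∀ u', M.B e (p x y u') = 0 := by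
  have ha := T.mem x y u
  have k : ∀ e ∈ E (p x y u), (∀ x', M.B e (p x' y u) = 0) ∧ (∀ y', M.B e (p x y' u) = 0) ∧
      ∀ u', M.B e (p x y u') = 0 := fun e h =>
    ⟨fun x' => M.B_of_sing (T.fu.sing _ ha) h (T.memE1 x y u x'),
      fun y' => M.B_of_sing (T.fu.sing _ ha) h (T.s12.memE1 y x u y'),
      fun u' => M.B_of_sing (T.fu.sing _ ha) h (T.s13.memE1 u y x u')⟩
  refine ⟨k e, fun h => ?_⟩
  obtain ⟨x', n1⟩ := exists_ne x
  obtain ⟨y', n2⟩ := exists_ne y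
  obtain ⟨u', n3⟩ := exists_ne u
  obtain ⟨l, hl, m⟩ := T.fu.surj _ ha (p x' y' u') e (T.B_ne n1.symm n2.symm n3.symm) (h.1 x)
  obtain ⟨k1, k2, k3⟩ := k _ m
  obtain ⟨f1, f2, f3⟩ := (T.memL _ _ _ _).1 hl
  have g1 : (ε l).1 x' ≠ x := fun e => n1 ((ε l).1.injective (e.trans f1.symm))
  have g2 : (ε l).2.1 y' ≠ y := fun e => n2 ((ε l).2.1.injective (e.trans f2.symm))
  have g3 : (ε l).2.2 u' ≠ u := fun e => n3 ((ε l).2.2.injective (e.trans f3.symm))
  have e1 := k1 x'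
  have e2 := k2 y'
  have e3 := k3 u'
  rw [B_add_left, B_add_left, T.smul, T.B_eq, T.B_eq] at e1 e2 e3
  rw [h.1] at e1
  rw [h.2.1] at e2
  rw [h.2.2] at e3
  simp [g1.symm, g2.symm, g3.symm] at e1 e2 e3
  rwa [T.smul, ← e1, ← e2, ← e3, aa, zero_add] at m

theorem span {v : V} (h : ∀ x y u, M.B v (p x y u) = 0) : v = 0 := by
  let U : AddSubgroup V :=
    { carrier := {v | ∀ x y u, M.B v (p x y u) = 0}
      zero_mem' := by simp
      add_mem' := fun hu hv x y u => by rw [B_add_left, hu, hv, add_zero]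
      neg_mem' := fun h => by rwa [neg2] }
  exact T.fu.eq_zero (U := U) (T.mem 0 0 0) (fun g v hv x y u => by rw [M.B_inv, T.smul, hv])
    (fun k => by simpa [T.B_eq] using k 1 1 1) h (T.fu.E_le (T.mem 0 0 0)
      (T.E_iff.2 ⟨fun _ => h _ _ _, fun _ => h _ _ _, fun _ => h _ _ _⟩))

theorem ext {v w : V} (h : ∀ x y u, M.B v (p x y u) = M.B w (p x y u)) : v = w :=
  add_eq_zero2.1 (T.span fun x y u => by rw [B_add_left, h, z2_add_self])

theorem S_iff {v : V} : v ∈ S ↔ ∃ x y u, p x y u = v := by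
  refine ⟨fun hv => ?_, by rintro ⟨x, y, u, rfl⟩; exact T.mem x y u⟩
  obtain ⟨x, y, u, h⟩ := exists_stab T.fu ε hv T.hc
  have fx : ∀ s : S3 × S3 × S3, s.1 x = x → s.2.1 y = y → s.2.2 u = u → ε.symm s • v = v :=
    fun s a b c => T.fu.fix v hv _ ((h _).2 (by simpa using ⟨a, b, c⟩))
  have m : v ∈ E (p x y u) := T.E_iff.2
    ⟨fun x' => (M.B_comm _ _).trans (T.s12.perp_fix (x := y) (y := x') fun s e => fx (1, s, 1) rfl e rfl),
      fun y' => (M.B_comm _ _).trans (T.perp_fix fun s e => fx (s, 1, 1) e rfl rfl),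
      fun u' => (M.B_comm _ _).trans (T.perp_fix fun s e => fx (s, 1, 1) e rfl rfl)⟩
  refine ⟨x, y, u, ?_⟩
  by_contra n
  obtain ⟨w, w1, w2⟩ := sep1 M (T.fu.ne v hv) (Ne.symm n)
  obtain ⟨l, hl, e⟩ := T.fu.exists_tv (T.mem x y u) w1
  have := e v (T.fu.E_le (T.mem x y u) m)
  rw [T.fu.fix v hv l ((h l).2 ((T.memL _ _ _ _).1 hl)), M.B_comm, w2, one_smul, left_eq_add] at this
  exact T.fu.ne _ (T.mem x y u) this

theorem inj {x y u x' y' u' : Fin 3} (h : p x y u = p x' y' u') : x = x' ∧ y = y' ∧ u = u' := by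
  have k : ∀ a b c, (a ≠ x ∧ b ≠ y ∧ c ≠ u) ↔ (a ≠ x' ∧ b ≠ y' ∧ c ≠ u') := fun a b c => by
    have := T.B_eq x y u a b c
    rw [h, T.B_eq] at this
    split_ifs at this with h1 h2 h2
    · exact iff_of_true h2 h1
    · cases this
    · cases this
    · exact iff_of_false h2 h1
  clear h
  revert x y u x' y' u'
  decide +kernel

end TM

end Cfsg.Agent.H4.D4
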