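/-
The elementary subgroups of order 64 of the centraliser `2^(1+8).(S₃ × S₃ × S₃)`.
-/
import Cfsg.Agent.H4.D4A
import Cfsg.Agent.H4.D4D

set_option autoImplicit false
set_option linter.unusedSectionVars false

namespace Cfsg.Agent.H4.D4

open Subgroup H97 H15 H8 H4.GF DW Equiv
open scoped commutatorElement

namespace TM

variable {Γ : Type*} {V : Type*} [Group Γ] [AddCommGroup V] [Module (ZMod 2) V]
  [DistribMulAction Γ V] [Finite V] [Finite Γ] {M : QV Γ V} {S : Set V} {E : V → AddSubgroup V}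
  {L : V → Subgroup Γ} {ε : Γ ≃* S3 × S3 × S3} {p : Fin 3 → Fin 3 → Fin 3 → V} (T : TM M S E L ε p)
include T

theorem free1 {g : Γ} (h2 : g * g = 1) (h1 : (ε g).1 ≠ 1) {v : V} (h : g • v = v) :
    ∃ w, g • w + w = v := by
  let t := ε.symm (finRotate 3, 1, 1)
  have e : g * t = t * t * g := ε.injective (by
    have k : (ε g).1 * (ε g).1 = 1 := by rw [← Prod.fst_mul, ← map_mul, h2, map_one]; rfl
    simpa [t, Prod.ext_iff] using (by decide : ∀ s : S3, s * s = 1 → s ≠ 1 →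
      s * finRotate 3 = finRotate 3 * finRotate 3 * s) _ k h1)
  refine ⟨t • v, ?_⟩
  rw [smul_smul, e, mul_smul, h, mul_smul, ← add_eq_zero2]
  refine T.span fun x y u => ?_
  rw [B_add_left, B_add_left, ← M.B_smul t (t • t • v), ← M.B_smul t (t • v), ← M.B_smul t (t • t • v),
    smul_smul, smul_smul, show t * t * t = 1 from ε.injective (by simp [t]; decide), one_smul,
    ← map_add, ← map_add, T.smul', T.smul', add_comm (p _ _ _)]
  exact (congrArg _ (add_eq_zero2.2 (sum3 (f := fun x => p x y u) (T.add1 y u) (by revert x; decide)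
    (by revert x; decide) (by revert x; decide)))).trans (map_zero _)

theorem free {g : Γ} (h2 : g * g = 1) (h1 : g ≠ 1) {v : V} (h : g • v = v) : ∃ w, g • w + w = v := by
  by_cases e1 : (ε g).1 = 1
  · by_cases e2 : (ε g).2.1 = 1
    · exact T.s13.free1 h2 (fun e3 => h1 (ε.injective (by
        rw [map_one]; exact Prod.ext e1 (Prod.ext e2 e3)))) h
    · exact T.s12.free1 h2 e2 h
  · exact T.free1 h2 e1 h

theorem row {v : V} {x y u x1 x2 : Fin 3} (h : M.B v (p x y u) = 0) (n1 : x1 ≠ x) (n2 : x2 ≠ x) :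
    M.B v (p x1 y u) = M.B v (p x2 y u) := by
  by_cases e : x1 = x2
  · rw [e]
  · rw [← sum3 (f := fun x => p x y u) (T.add1 y u) n2.symm n1.symm (Ne.symm e), map_add, h, zero_add]

theorem Y_fix {g : Γ} {x : Fin 3} (h1 : (ε g).1 x = x) (h2 : (ε g).2 = 1) {v : V}
    (h : ∀ y u, M.B v (p x y u) = 0) : g • v = v := by
  refine T.ext fun x' y u => ?_
  rw [M.B_inv, T.smul, map_inv, Prod.snd_inv, h2, inv_one, Prod.fst_inv]
  by_cases e : x' = x
  · rw [e, h]; exact (congrArg (fun x => M.B v (p x y u)) (Perm.inv_eq_iff_eq.2 h1.symm)).trans (h y u)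
  · exact T.row (h y u) (fun k => e ((Perm.inv_eq_iff_eq.1 k).trans h1)) e

theorem Y_of_fix {g : Γ} {x : Fin 3} (h1 : (ε g).1 x = x) (h2 : (ε g).2 = 1) (n : g ≠ 1) {v : V}
    (h : g • v = v) (y u : Fin 3) : M.B v (p x y u) = 0 := by
  have n' : (ε g).1 ≠ 1 := fun e => n (ε.injective (by rw [map_one]; exact Prod.ext e h2))
  obtain ⟨x', n1, n2⟩ := (by decide : ∀ (s : S3) (x : Fin 3), s x = x → s ≠ 1 →
    ∃ y, y ≠ x ∧ s y ≠ x ∧ s y ≠ y) _ x h1 n'
  rw [← T.cm1 n1 n2, M.B_comm, show ((ε g).1, 1, 1) = ε g from Prod.ext rfl h2.symm, ε.symm_apply_apply]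
  exact M.adj0 _ h

theorem ind {U : AddSubgroup V} (h : ∀ x y u, p x y u ∈ U) (v : V) : v ∈ U := by
  rw [← M.perp_perp U]
  intro w hw
  rw [T.span fun x y u => (M.B_comm _ _).trans (hw _ (h x y u)), map_zero, LinearMap.zero_apply]

theorem Y_sing {x : Fin 3} {v : V} (h : ∀ y u, M.B v (p x y u) = 0) : M.f v = 0 := by
  obtain ⟨s, s1, s2, s3⟩ := (by decide : ∀ x : Fin 3, ∃ s : S3, s x = x ∧ s ≠ 1 ∧ s * s = 1) x
  have g2 : ε.symm (s, 1, 1) * ε.symm (s, 1, 1) = 1 := by rw [← map_mul]; simp [s3, ← Prod.one_eq_mk]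
  obtain ⟨w, rfl⟩ := T.free1 g2 (by simpa using s2) (T.Y_fix (by simpa using s1) (by simp) h)
  rw [M.f_cm, B_add_left, M.B_self, add_zero]
  let U : AddSubgroup V :=
    { carrier := {w | M.B (ε.symm (s, 1, 1) • w) w = 0}
      zero_mem' := by simp
      add_mem' := fun {a b} ha hb => by
        change _ = _ at ha hb ⊢
        rw [smul_add, B_add_left, map_add, map_add, ha, hb, zero_add, add_zero, M.B_inv,
          inv_eq_of_mul_eq_one_right g2, M.B_comm, z2_add_self]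
      neg_mem' := fun h => by rwa [neg2] }
  exact T.ind (U := U) (fun x y u => show M.B _ _ = 0 by simp [T.smul', T.B_eq]) w

theorem Y_char {x y u : Fin 3} {v : V} (h1 : ∀ y', M.B v (p x y' u) = 0)
    (h2 : ∀ u', M.B v (p x y u') = 0) (h3 : v ∉ E (p x y u)) (h4 : M.f v = 0) (y' u' : Fin 3) :
    M.B v (p x y' u') = 0 := by
  by_contra n
  have n1 : y' ≠ y := fun e => n (e ▸ h2 u')
  have n2 : u' ≠ u := fun e => n (e ▸ h1 y')
  obtain ⟨x', hx⟩ : ∃ x', M.B v (p x' y u) ≠ 0 := by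
    by_contra hno
    exact h3 (T.E_iff.2 ⟨by simpa using hno, h1, h2⟩)
  have n3 : x' ≠ x := fun e => hx (e ▸ h1 y)
  have := T.Y_sing (x := x) (v := v + p x' y u) fun a b => by
    rw [B_add_left, T.B_eq]
    by_cases e1 : a = y
    · simp [e1, h2]
    by_cases e2 : b = u
    · simp [e2, h1]
    rw [if_pos ⟨n3.symm, e1, e2⟩, show M.B v (p x a b) = M.B v (p x y' b) from T.s12.row (h2 b) e1 n1,
      show M.B v (p x y' b) = M.B v (p x y' u') from T.s13.row (h1 y') e2 n2, z2_ne_zero n]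
    rfl
  rw [M.f_add, h4, T.f_eq, z2_ne_zero hx] at this
  cases this

theorem span' {v : V} (h : ∀ x y u, x ≠ 2 → y ≠ 2 → u ≠ 2 → M.B v (p x y u) = 0) : v = 0 := by
  have k : ∀ f : Fin 3 → V, ∑ x, f x = 0 → (∀ x, x ≠ 2 → M.B v (f x) = 0) → ∀ x, M.B v (f x) = 0 := by
    intro f hf h x
    by_cases e : x = 2
    · rw [e, ← sum3 hf (x := 0) (y := 1) (by decide) (by decide) (by decide), map_add,
        h 0 (by decide), h 1 (by decide), add_zero]
    · exact h x e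
  exact T.span fun x y u => k _ (T.add1 y u) (fun x a => k _ (T.add2 x u)
    (fun y b => k _ (T.add3 x y) (fun u c => h x y u a b c) u) y) x

omit T in
/-- coordinates -/
def ν (p : Fin 3 → Fin 3 → Fin 3 → V) (s s' t t' : ZMod 2) : V :=
  s • p 0 0 0 + s' • p 0 1 1 + t • p 0 0 1 + t' • p 0 1 0

theorem ν_B (s s' t t' : ZMod 2) : M.B (ν p s s' t t') (p 1 1 1) = s ∧ M.B (ν p s s' t t') (p 1 0 0) = s' ∧
    M.B (ν p s s' t t') (p 1 1 0) = t ∧ M.B (ν p s s' t t') (p 1 0 1) = t' ∧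
    ∀ y u, M.B (ν p s s' t t') (p 0 y u) = 0 := by
  simp [ν, T.B_eq]

theorem ν_eq {v : V} (h : ∀ y u, M.B v (p 0 y u) = 0) :
    ν p (M.B v (p 1 1 1)) (M.B v (p 1 0 0)) (M.B v (p 1 1 0)) (M.B v (p 1 0 1)) = v := by
  obtain ⟨a, b, c, d, e⟩ := T.ν_B (M.B v (p 1 1 1)) (M.B v (p 1 0 0)) (M.B v (p 1 1 0)) (M.B v (p 1 0 1))
  refine add_eq_zero2.1 (T.span' fun x y u n1 n2 n3 => ?_)
  rw [B_add_left]
  have k : ∀ x : Fin 3, x ≠ 2 → x = 0 ∨ x = 1 := by decide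
  rcases k x n1 with rfl | rfl <;> rcases k y n2 with rfl | rfl <;> rcases k u n3 with rfl | rfl <;>
    simp only [a, b, c, d, e, h, z2_add_self]

theorem pure {s s' t t' : ZMod 2} : (∃ x y u, p x y u = ν p s s' t t') ↔
    ¬ (s = 0 ∧ s' = 0 ∧ t = 0 ∧ t' = 0) ∧ s * s' + t * t' = 0 := by
  constructor
  · rintro ⟨x, y, u, h⟩
    obtain ⟨a, b, c, d, e⟩ := T.ν_B s s' t t'
    obtain ⟨y', n1⟩ := exists_ne y
    obtain ⟨u', n2⟩ := exists_ne u
    have e' := e y' u'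
    rw [← h, T.B_eq] at a b c d e'
    obtain rfl : 0 = x := by simpa [n1, n2] using e'
    subst a b c d
    clear h e e' n1 n2
    revert y u; decide
  · intro h
    obtain ⟨y, u, a, b, c, d⟩ := (by decide : ∀ s s' t t' : ZMod 2, ¬ (s = 0 ∧ s' = 0 ∧ t = 0 ∧ t' = 0) ∧
      s * s' + t * t' = 0 → ∃ y u : Fin 3, s = (if 1 ≠ y ∧ 1 ≠ u then 1 else 0) ∧
        s' = (if 0 ≠ y ∧ 0 ≠ u then 1 else 0) ∧ t = (if 1 ≠ y ∧ 0 ≠ u then 1 else 0) ∧
        t' = (if 0 ≠ y ∧ 1 ≠ u then 1 else 0)) s s' t t' h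
    refine ⟨0, y, u, ?_⟩
    rw [← T.ν_eq (T.B1 0 y u), a, b, c, d]
    simp [T.B_eq]

theorem not_pure {y u y' u' a b c : Fin 3} (n1 : y' ≠ y) (n2 : u' ≠ u) :
    p 0 y u + p 0 y' u' ≠ p a b c := fun h => by
  have k : ∀ i j k, (if i ≠ 0 ∧ j ≠ y ∧ k ≠ u then 1 else 0) + (if i ≠ 0 ∧ j ≠ y' ∧ k ≠ u' then 1 else 0) =
      (if i ≠ a ∧ j ≠ b ∧ k ≠ c then 1 else 0 : ZMod 2) := fun i j k => by
    rw [← T.B_eq, ← T.B_eq, ← T.B_eq, ← h, B_add_left]
  clear h
  revert y u y' u' a b c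
  decide +kernel

theorem exists_f {v : V} (n : v ≠ 0) : ∃ x y u, M.B v (p x y u) = 0 ∧ v ∉ E (p x y u) := by
  by_contra hno
  have h : ∀ x y u, M.B v (p x y u) = 0 → _ := fun x y u e => T.E_iff.1
    (not_not.1 fun k => hno ⟨x, y, u, e, k⟩)
  obtain ⟨x, hx⟩ : ∃ x, M.B v (p x 0 0) = 0 := by
    by_contra k
    have := congrArg (M.B v) (T.add1 0 0)
    rw [map_sum, map_zero, Finset.sum_congr rfl fun x _ => z2_ne_zero fun e => k ⟨x, e⟩] at this
    revert this; decide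
  exact n (T.span fun a b c => (h _ _ _ ((h _ _ _ ((h _ _ _ hx).1 a)).2.1 b)).2.2 c)

theorem eq_one {g : Γ} {x y u : Fin 3} (h1 : ∀ x', g • p x' y u = p x' y u)
    (h2 : ∀ y', g • p x y' u = p x y' u) (h3 : ∀ u', g • p x y u' = p x y u') : g = 1 :=
  ε.injective (by
    rw [map_one]
    exact Prod.ext (Equiv.ext fun a => (T.inj ((T.smul _ _ _ _).symm.trans (h1 a))).1)
      (Prod.ext (Equiv.ext fun a => (T.inj ((T.smul _ _ _ _).symm.trans (h2 a))).2.1)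
        (Equiv.ext fun a => (T.inj ((T.smul _ _ _ _).symm.trans (h3 a))).2.2)))

end TM

end Cfsg.Agent.H4.D4
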