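/-
The points through `z`.
-/
import Cfsg.Agent.H4.D4E

set_option autoImplicit false
set_option linter.unusedSectionVars false

namespace Cfsg.Agent.H4.D4

open Subgroup H97 H15 H8 H4.GF DW Equiv
open scoped commutatorElement

universe u

variable {G : Type u} [Group G] {D : Set G} {Q : G → Subgroup G} {z : G} {Γ V : Type u} [Group Γ]
  [AddCommGroup V] [Module (ZMod 2) V] [DistribMulAction Γ V]

/-- the group level -/
structure TG (D : Set G) (X : Br (Q z) z Γ V) (ε : Γ ≃* S3 × S3 × S3)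
    (p : Fin 3 → Fin 3 → Fin 3 → V) : Prop where
  c : Cx D Q
  hz : z ∈ D
  T : TM X.M (X.S D) (X.E D) (X.L D) ε p

namespace TG

variable [Finite G] [Finite V] [Finite Γ] {X : Br (Q z) z Γ V} {ε : Γ ≃* S3 × S3 × S3}
  {p : Fin 3 → Fin 3 → Fin 3 → V} (t : TG D X ε p)
include t

theorem s12 : TG D X (ε.trans sw12) fun x y u => p y x u := ⟨t.c, t.hz, t.T.s12⟩

theorem s13 : TG D X (ε.trans sw13) fun x y u => p u y x := ⟨t.c, t.hz, t.T.s13⟩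

theorem lift (x y u : Fin 3) : ∃ a ∈ D, a ∈ Q z ∧ a ≠ z ∧ X.π a = p x y u := t.T.mem x y u

theorem D_iff {a : G} (ha : a ∈ Q z) : a ∈ D ∧ a ≠ z ↔ ∃ x y u, p x y u = X.π a := by
  rw [← t.T.S_iff]
  refine ⟨fun h => ⟨a, h.1, ha, h.2, rfl⟩, fun h => ?_⟩
  have n := t.T.fu.ne _ h
  obtain ⟨b, h1, h2, h3, e⟩ := h
  obtain ⟨q, -, f⟩ := X.lifts t.c h1 h2 h3 ha e.symm
  exact ⟨f ▸ t.c.conj b h1 q, fun k => n (by rw [k, X.π_z])⟩

theorem ne_z {a : G} {x y u : Fin 3} (e : X.π a = p x y u) : a ≠ z := fun k =>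
  t.T.fu.ne _ (t.T.mem x y u) (by rw [← e, k, X.π_z])

theorem memD {a : G} (ha : a ∈ Q z) {x y u : Fin 3} (e : X.π a = p x y u) : a ∈ D :=
  ((t.D_iff ha).2 ⟨x, y, u, e.symm⟩).1

theorem Q_iff {a e : G} (ha : a ∈ Q z) {x y u : Fin 3} (h : X.π a = p x y u) (he : e ∈ Q z) :
    e ∈ Q a ↔ X.π e ∈ X.E D (p x y u) := by
  rw [← h, X.mem_E t.c t.hz (t.memD ha h) ha (t.ne_z h) he]

theorem conj_inv {g l : G} (hg : g * z = z * g) (hl : l * z = z * l) (g2 : g * g = 1) (l2 : l * l = 1)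
    (n : g ∉ Q z) (e : X.r l = X.r g) : ∃ q ∈ Q z, g = q * l * q⁻¹ ∨ g = q * (z * l) * q⁻¹ := by
  have hq : g * l ∈ Q z := (X.r_eq_one (mul_cz hg hl)).1 (by
    rw [X.r_mul hg hl, e, ← X.r_mul hg hg, g2, X.r_Q (one_mem _)])
  obtain ⟨w, hw⟩ := t.T.free (g := X.r l) (by rw [← X.r_mul hl hl, l2, X.r_Q (one_mem _)])
    (fun k => n ((X.r_eq_one hg).1 (e ▸ k))) (v := X.π (g * l)) (by
      rw [X.act hl hq, mul_assoc, mul_inv_cancel_right, ← X.π_inv hq, mul_inv_rev,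
        inv_eq_of_mul_eq_one_right g2, inv_eq_of_mul_eq_one_right l2])
  obtain ⟨q, h, rfl⟩ := X.surj w
  rw [X.act_add hl h, ← X.π_inv (cm_mem X.lx hl h), commutatorElement_inv, eq_comm,
    X.π_eq hq (cm_mem' X.lx hl h), commutatorElement_def, inv_eq_of_mul_eq_one_right l2,
    ← mul_assoc z, mul_left_inj, mul_left_inj] at hw
  refine ⟨q, h, hw.imp_right fun k => ?_⟩
  rw [k, ← mul_assoc q, X.lx.cen q h]; group

theorem cov {g : G} (hg : g * z = z * g) (g2 : g * g = 1) (n : g ∉ Q z) {x y u : Fin 3}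
    (h : (ε (X.r g)).1 x = x ∧ (ε (X.r g)).2.1 y = y ∧ (ε (X.r g)).2.2 u = u) :
    ∃ d ∈ Q z, X.π d = p x y u ∧ g ∈ Q d := by
  obtain ⟨a, a1, a2, a3, a4⟩ := t.lift x y u
  have La := t.c.lx a a1
  have za := t.c.symm t.hz a1 a2
  obtain ⟨l, l1, l2, l3, l4⟩ : ∃ l ∈ Q a, l * z = z * l ∧ X.r l = X.r g ∧ l * l = 1 := by
    have := (t.T.memL x y u _).2 h
    rw [← a4, X.L_eq t.c a1 a2 a3] at this
    obtain ⟨l, l1, l2, l3⟩ := this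
    rcases La.sqr l l1 with e | e
    · exact ⟨l, l1, l2, l3, e⟩
    by_cases k : ∀ b ∈ D, b ∈ Q z → b ∈ Q a → l * b = b * l
    · have k' : ∀ i j m, p i j m ∈ X.E D (p x y u) → X.r l • p i j m = p i j m := fun i j m o => by
        obtain ⟨b, b1, b2, -, b4⟩ := t.lift i j m
        rw [← b4, X.act l2 b2, k b b1 b2 ((t.Q_iff a2 a4 b2).2 (b4 ▸ o)), mul_inv_cancel_right]
      exact absurd ((X.r_eq_one hg).1 (l3 ▸ t.T.eq_one (fun i => k' _ _ _ (t.T.memE1 x y u i))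
        (fun i => k' _ _ _ (t.T.s12.memE1 y x u i)) fun i => k' _ _ _ (t.T.s13.memE1 u y x i))) n
    obtain ⟨b, b1, b2, b3, b4⟩ : ∃ b ∈ D, b ∈ Q z ∧ b ∈ Q a ∧ l * b ≠ b * l := by simpa using k
    refine ⟨b * l, mul_mem b3 l1, mul_cz (X.lx.cen b b2) l2,
      by rw [X.r_mul (X.lx.cen b b2) l2, X.r_Q b2, one_mul, l3], ?_⟩
    have := (La.comm l l1 b b3).resolve_left fun e => b4 (mul_inv_eq_iff_eq_mul.1 e)
    calc _ = b * (l * b * l⁻¹) * (l * l) := by group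
      _ = 1 := by rw [this, e, ← mul_assoc, La.cen b b3, mul_assoc a, (t.c.lx b b1).sq, mul_one, La.sq]
  obtain ⟨q, hq, e⟩ := t.conj_inv hg l2 g2 l4 n l3
  refine ⟨q * a * q⁻¹, X.lx.norm q (X.lx.cen q hq) a a2,
    by rw [← X.act (X.lx.cen q hq) a2, X.r_Q hq, one_smul, a4], ?_⟩
  rcases e with e | e <;> rw [e]
  exacts [t.c.Qc _ _ _ l1, t.c.Qc _ _ _ (mul_mem za l1)]

omit t in
/-- membership in a point -/
structure MA (X : Br (Q z) z Γ V) (ε : Γ ≃* S3 × S3 × S3) (p : Fin 3 → Fin 3 → Fin 3 → V) (x : Fin 3)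
    (g : G) : Prop where
  cz : g * z = z * g
  sq : g * g = 1
  f1 : (ε (X.r g)).1 x = x
  f2 : (ε (X.r g)).2 = 1
  y : g ∈ Q z → ∀ y u, X.M.B (X.π g) (p x y u) = 0

theorem ma_Q {x : Fin 3} {g : G} (hg : g ∈ Q z) (h : ∀ y u, X.M.B (X.π g) (p x y u) = 0) :
    MA X ε p x g :=
  ⟨X.lx.cen g hg, (X.f_π g hg).1 (t.T.Y_sing h), by simp [X.r_Q hg], by simp [X.r_Q hg], fun _ => h⟩

theorem ma_idx {x : Fin 3} {g k : G} (hg : MA X ε p x g) (hk : MA X ε p x k) (n1 : g ∉ Q z)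
    (n2 : k ∉ Q z) : X.r k = X.r g := by
  have h : ∀ {g}, MA X ε p x g → g ∉ Q z → (ε (X.r g)).1 ≠ 1 := fun hg n e =>
    n ((X.r_eq_one hg.cz).1 (ε.injective (by rw [map_one]; exact Prod.ext e hg.f2)))
  exact ε.injective (Prod.ext ((by decide : ∀ (s s' : S3) (x : Fin 3), s x = x ∧ s' x = x → s ≠ 1 →
    s' ≠ 1 → s = s') _ _ x ⟨hk.f1, hg.f1⟩ (h hk n2) (h hg n1)) (hk.f2.trans hg.f2.symm))

theorem ma_idx' {x : Fin 3} {g k : G} (hg : MA X ε p x g) (hk : MA X ε p x k) (n1 : g ∉ Q z)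
    (n2 : k ∉ Q z) : g * k ∈ Q z :=
  (X.r_eq_one (mul_cz hg.cz hk.cz)).1 (by
    rw [X.r_mul hg.cz hk.cz, t.ma_idx hg hk n1 n2, ← X.r_mul hg.cz hg.cz, hg.sq, X.r_Q (one_mem _)])

theorem ma_fix {x : Fin 3} {g k : G} (hg : MA X ε p x g) (n : g ∉ Q z) (hk : k ∈ Q z)
    (e : g * k * g⁻¹ = k ∨ g * k * g⁻¹ = k⁻¹) : MA X ε p x k :=
  t.ma_Q hk (t.T.Y_of_fix hg.f1 hg.f2 (fun e => n ((X.r_eq_one hg.cz).1 e)) (by
    rw [X.act hg.cz hk]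
    rcases e with e | e <;> rw [e]
    exact X.π_inv hk))

theorem ma_comm {x : Fin 3} {g k : G} (hg : MA X ε p x g) (hk : MA X ε p x k) : g * k = k * g := by
  have h : ∀ {g k}, MA X ε p x g → MA X ε p x k → g ∉ Q z → k ∈ Q z → g * k = k * g := by
    intro g k hg hk n1 n2
    obtain ⟨w, hw⟩ := t.T.free (g := X.r g) (by rw [← X.r_mul hg.cz hg.cz, hg.sq, X.r_Q (one_mem _)])
      (fun e => n1 ((X.r_eq_one hg.cz).1 e)) (t.T.Y_fix hg.f1 hg.f2 (hk.y n2))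
    obtain ⟨q, h, rfl⟩ := X.surj w
    rw [X.act_add hg.cz h, eq_comm, X.π_eq n2 (cm_mem X.lx hg.cz h)] at hw
    have := inv_cm (r := q) hg.sq
    refine mul_inv_eq_iff_eq_mul.1 (Eq.trans ?_ (inv_eq_of_mul_eq_one_right hk.sq))
    rcases hw with e | e <;> rw [e]
    · exact this
    · rw [← conj_mul, this, hg.cz, mul_inv_cancel_right, mul_inv_rev, inv_eq_of_mul_eq_one_right X.lx.sq,
        X.lx.cen _ (inv_mem (cm_mem X.lx hg.cz h))]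
  have h' : g * k * (g * k) = 1 → g * k = k * g := fun e => by
    rw [← inv_eq_of_mul_eq_one_right e, mul_inv_rev, inv_eq_of_mul_eq_one_right hg.sq,
      inv_eq_of_mul_eq_one_right hk.sq]
  by_cases n1 : g ∈ Q z <;> by_cases n2 : k ∈ Q z
  · exact h' (t.ma_Q (x := x) (mul_mem n1 n2) fun y u => by
      rw [X.π_mul g n1 k n2, B_add_left, hg.y n1, hk.y n2, add_zero]).sq
  · exact (h hk hg n2 n1).symm
  · exact h hg hk n1 n2
  · exact h' (t.ma_fix hg n1 (t.ma_idx' hg hk n1 n2) (Or.inr (by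
      rw [← mul_assoc, hg.sq, one_mul, mul_inv_rev, inv_eq_of_mul_eq_one_right hk.sq]))).sq

/-- the point -/
def A (x : Fin 3) : Subgroup G where
  carrier := {g | MA X ε p x g}
  one_mem' := t.ma_Q (one_mem _) (by simp [X.π_one])
  mul_mem' {g k} hg hk := by
    have e := t.ma_comm hg hk
    refine ⟨mul_cz hg.cz hk.cz, by rw [mul_assoc, ← mul_assoc k, ← e, mul_assoc, hk.sq, mul_one, hg.sq],
      by simp [X.r_mul hg.cz hk.cz, hg.f1, hk.f1], by simp [X.r_mul hg.cz hk.cz, hg.f2, hk.f2], fun h => ?_⟩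
    by_cases n : g ∈ Q z
    · have n' := ((Q z).mul_mem_cancel_left n).1 h
      intro y u
      rw [X.π_mul g n k n', B_add_left, hg.y n, hk.y n', add_zero]
    · exact (t.ma_fix hg n h (Or.inl (by rw [e, ← mul_assoc, mul_inv_cancel_right, e]))).y h
  inv_mem' {g} hg := by rwa [inv_eq_of_mul_eq_one_right hg.sq]

theorem mem_A {x : Fin 3} {g : G} : g ∈ t.A x ↔ MA X ε p x g := Iff.rfl

theorem z_mem (x : Fin 3) : z ∈ t.A x := t.ma_Q X.lx.mem (by simp [X.π_z])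

theorem p_mem {a : G} (ha : a ∈ Q z) {x y u : Fin 3} (e : X.π a = p x y u) : a ∈ t.A x :=
  t.ma_Q ha fun _ _ => e ▸ t.T.B1 _ _ _ _ _

theorem eq_of_p_mem {a : G} (ha : a ∈ Q z) {x y u x' : Fin 3} (e : X.π a = p x y u) (h : a ∈ t.A x') :
    x' = x := by
  obtain ⟨y', n1⟩ := exists_ne y
  obtain ⟨u', n2⟩ := exists_ne u
  simpa [e, t.T.B_eq, n1, n2] using h.y ha y' u'

theorem D_cases {a : G} (h1 : a ∈ D) (h2 : a ∈ Q z) {x : Fin 3} (h3 : a ∈ t.A x) :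
    a = z ∨ ∃ y u, X.π a = p x y u := by
  refine or_iff_not_imp_left.2 fun n => ?_
  obtain ⟨x', y, u, e⟩ := (t.D_iff h2).1 ⟨h1, n⟩
  exact ⟨y, u, t.eq_of_p_mem h2 e.symm h3 ▸ e.symm⟩

theorem A_inj : Function.Injective t.A := fun x x' e => by
  obtain ⟨a, -, a2, -, a4⟩ := t.lift x 0 0
  exact (t.eq_of_p_mem a2 a4 (e ▸ t.p_mem a2 a4)).symm

theorem A_conj {h : G} (hh : h * z = z * h) (x : Fin 3) : cjs h (t.A x) = t.A ((ε (X.r h)).1 x) := by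
  have k : ∀ h, h * z = z * h → ∀ x, ∀ g ∈ t.A x, h * g * h⁻¹ ∈ t.A ((ε (X.r h)).1 x) := by
    intro h hh x g hg
    refine ⟨mul_cz (mul_cz hh hg.cz) (inv_cz hh), by rw [conj_mul, hg.sq]; simp,
      by simp [X.r_conj hh hg.cz, hg.f1], by simp [X.r_conj hh hg.cz, hg.f2], fun m y u => ?_⟩
    have m' : g ∈ Q z := (t.c.Q_iff (mul_inv_eq_iff_eq_mul.2 hh) rfl).1 m
    rw [← X.act hh m', X.M.B_inv, t.T.smul]
    simpa using hg.y m' _ _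
  ext g
  rw [mem_cjs]
  exact ⟨fun e => by simpa [mul_assoc] using k h hh x _ e,
    fun e => by simpa [X.r_inv hh] using k h⁻¹ (inv_cz hh) _ g e⟩

theorem A_int {x x' : Fin 3} (n : x ≠ x') {g : G} (h : g ∈ t.A x) (h' : g ∈ t.A x') : g = 1 ∨ g = z := by
  have m : g ∈ Q z := (X.r_eq_one h.cz).1 (ε.injective (by
    rw [map_one]
    exact Prod.ext ((by decide : ∀ (s : S3) (x y : Fin 3), s x = x ∧ s y = y → x ≠ y → s = 1) _ x x'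
      ⟨h.f1, h'.f1⟩ n) h.f2))
  refine (X.π_zero g m).1 (t.T.span fun a y u => ?_)
  by_cases e : a = x
  · exact e ▸ h.y m y u
  · exact (t.T.row (h.y m y u) e n.symm).trans (h'.y m y u)

theorem norm_Q {a : G} (h1 : a ∈ D) (h2 : a ∈ Q z) {x : Fin 3} (h3 : a ∈ t.A x) {s : G} (hs : s ∈ Q a) :
    cjs s (t.A x) = t.A x := by
  rcases t.D_cases h1 h2 h3 with rfl | ⟨y, u, e⟩
  · rw [t.A_conj (X.lx.cen s hs), X.r_Q hs]; simp
  have La := t.c.lx a h1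
  have k : ∀ s ∈ Q a, ∀ g ∈ Q a, ∀ B : Subgroup G, a ∈ B → g ∈ B → s * g * s⁻¹ ∈ B := by
    intro s hs g hg B b1 b2
    rcases La.comm s hs g hg with f | f <;> rw [f]
    exacts [b2, mul_mem b1 b2]
  refine H4.map_conj_eq_iff.2 (H4.mem_normalizer_of_conj_mem fun g hg => ?_)
  by_cases n : g ∈ Q a
  · exact k s hs g n _ h3 hg
  have c : ∀ b ∈ t.A x, b ∈ Q a → s * g * s⁻¹ * b = b * (s * g * s⁻¹) := fun b b1 b2 => by
    have := t.ma_comm hg (k s⁻¹ (inv_mem hs) b b2 _ h3 b1)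
    calc _ = s * (g * (s⁻¹ * b * s⁻¹⁻¹)) * s⁻¹ := by group
      _ = _ := by rw [this]; group
  have n' : s * g * s⁻¹ ∉ Q a := by rwa [mul_mem_cancel_right (inv_mem hs), mul_mem_cancel_left hs]
  have g2 : s * g * s⁻¹ * (s * g * s⁻¹) = 1 := by rw [conj_mul, hg.sq]; simp
  generalize s * g * s⁻¹ = g at c n' g2
  have cz := c z (t.z_mem x) (t.c.symm t.hz h1 h2)
  have c' : ∀ i j, p x i j ∈ X.E D (p x y u) → X.r g • p x i j = p x i j ∧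
      (g ∈ Q z → X.M.B (X.π g) (p x i j) = 0) := fun i j o => by
    obtain ⟨b, -, b2, -, b4⟩ := t.lift x i j
    have := c b (t.p_mem b2 b4) ((t.Q_iff h2 e b2).2 (b4 ▸ o))
    exact ⟨by rw [← b4, X.act cz b2, this, mul_inv_cancel_right], fun m => b4 ▸ (X.B_zero m b2).2 this⟩
  have c1 := fun i => c' i u (t.T.s12.memE1 y x u i)
  have c2 := fun i => c' y i (t.T.s13.memE1 u y x i)
  exact ⟨cz, g2, (t.T.inj ((t.T.smul _ _ _ _).symm.trans (c1 y).1)).1,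
    Prod.ext (Equiv.ext fun i => (t.T.inj ((t.T.smul _ _ _ _).symm.trans (c1 i).1)).2.1)
      (Equiv.ext fun i => (t.T.inj ((t.T.smul _ _ _ _).symm.trans (c2 i).1)).2.2),
    fun m => t.T.Y_char (fun i => (c1 i).2 m) (fun i => (c2 i).2 m)
      (fun o => n' ((t.Q_iff h2 e m).2 o)) ((X.f_π g m).2 g2)⟩

theorem cov_A {x : Fin 3} {g : G} (h : g ∈ t.A x) : ∃ d ∈ D, d ∈ Q z ∧ d ∈ t.A x ∧ g ∈ Q d := by
  by_cases n : g ∈ Q z
  · exact ⟨z, t.hz, X.lx.mem, t.z_mem x, n⟩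
  · obtain ⟨d, d1, d2, d3⟩ := t.cov h.cz h.sq n (x := x) (y := 0) (u := 0) ⟨h.f1, by simp [h.f2], by simp [h.f2]⟩
    exact ⟨d, t.memD d1 d2, d1, t.p_mem d1 d2, d3⟩

theorem tr0 {x : Fin 3} {d : G} (hd : d ∈ D) (h : d ∈ t.A x) :
    ∃ s, cjs s (t.A x) = t.A x ∧ s * z * s⁻¹ = d := by
  have k : ∀ d ∈ D, d ∈ Q z → d ∈ t.A x → ∃ s, cjs s (t.A x) = t.A x ∧ s * z * s⁻¹ = d := by
    intro d h1 h2 h3
    by_cases n : d = z
    · exact ⟨1, cjs_one _, by simp [n]⟩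
    obtain ⟨s, hs, e, -⟩ := t.c.exists_swap t.hz h1 h2 n
    exact ⟨s, H4.map_conj_eq_iff.2 ((sup_le (fun q hq => H4.map_conj_eq_iff.1
      (t.norm_Q t.hz X.lx.mem (t.z_mem x) hq)) fun q hq => H4.map_conj_eq_iff.1
        (t.norm_Q h1 h2 h3 hq) : _ ≤ normalizer _) hs), e⟩
  obtain ⟨e, e1, e2, e3, e4⟩ := t.cov_A h
  obtain ⟨s, s1, rfl⟩ := k e e1 e2 e3
  obtain ⟨s', s2, s3⟩ := k _ (t.c.conj d hd s⁻¹) ((t.c.Q_iff rfl (by group)).1 e4)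
    (by simpa using mem_cjs.1 (s1.symm ▸ h))
  exact ⟨s * s', by rw [← cjs_cjs, s2, s1], by rw [mul_assoc s, mul_inv_rev, ← mul_assoc, mul_assoc s, s3]; group⟩

theorem idx {x : Fin 3} {d g k : G} (hd : d ∈ D) (h : d ∈ t.A x) (hg : g ∈ t.A x) (hk : k ∈ t.A x)
    (n1 : g ∉ Q d) (n2 : k ∉ Q d) : g * k ∈ Q d := by
  obtain ⟨s, s1, rfl⟩ := t.tr0 hd h
  refine (t.c.Q_iff rfl (show s * (s⁻¹ * g * s * (s⁻¹ * k * s)) * s⁻¹ = _ by group)).2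
    (t.ma_idx' (mem_cjs.1 (s1.symm ▸ hg)) (mem_cjs.1 (s1.symm ▸ hk))
      (fun m => n1 ((t.c.Q_iff rfl (by group)).2 m)) fun m => n2 ((t.c.Q_iff rfl (by group)).2 m))

theorem not_both {g : G} (hg : g ∈ t.A 0) (n : g ∉ Q z) (h1 : g ∈ D) : z * g ∉ D := by
  intro h2
  obtain ⟨e, e1, e2, e3, e4⟩ := t.cov_A hg
  obtain ⟨s, s1, rfl⟩ := t.tr0 e1 e3
  have a1 := t.c.conj z t.hz s⁻¹
  have b1 := t.c.conj g h1 s⁻¹
  have c1 := t.c.conj _ h2 s⁻¹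
  have a2 : s⁻¹ * z * s⁻¹⁻¹ ∈ Q z := (t.c.Q_iff rfl (by group)).1 (t.c.symm t.hz e1 e2)
  have b2 : s⁻¹ * g * s⁻¹⁻¹ ∈ Q z := (t.c.Q_iff rfl (by group)).1 e4
  have a3 : s⁻¹ * z * s⁻¹⁻¹ ∈ t.A 0 := by simpa using mem_cjs.1 (s1.symm ▸ t.z_mem 0)
  have b3 : s⁻¹ * g * s⁻¹⁻¹ ∈ t.A 0 := by simpa using mem_cjs.1 (s1.symm ▸ hg)
  rw [← t.c.Q_iff (g := s⁻¹) rfl rfl] at n
  rw [← conj_mul] at c1
  generalize s⁻¹ * z * s⁻¹⁻¹ = a at *
  generalize s⁻¹ * g * s⁻¹⁻¹ = b at *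
  have za := t.c.symm t.hz a1 a2
  rcases t.D_cases a1 a2 a3 with rfl | ⟨y, u, ea⟩
  · exact n b2
  rcases t.D_cases b1 b2 b3 with rfl | ⟨y', u', eb⟩
  · exact n za
  obtain ⟨i, j, k, e⟩ := (t.D_iff (mul_mem a2 b2)).1 ⟨c1, fun e =>
    n (((Q a).mul_mem_cancel_left (t.c.lx a a1).mem).1 (e ▸ za))⟩
  rw [X.π_mul a a2 b b2, ea, eb] at e
  refine t.T.not_pure (fun f => n ?_) (fun f => n ?_) e.symm <;> rw [t.Q_iff a2 ea b2, eb, f]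
  exacts [t.T.s13.memE1 u y 0 u', t.T.s12.memE1 y 0 u y']

theorem x2 {d g : G} (hd : d ∈ D) (h : d ∈ t.A 0) (hg : g ∈ t.A 0) (n : g ∉ Q d)
    (ex : ∃ r ∈ D, r ∈ t.A 0 ∧ r ∉ Q z) : g ∈ D ↔ d * g ∉ D := by
  obtain ⟨s, s1, rfl⟩ := t.tr0 hd h
  obtain ⟨g, rfl⟩ : ∃ k, s * k * s⁻¹ = g := ⟨s⁻¹ * g * s, by group⟩
  rw [← s1, conj_mem_cjs] at hg
  rw [t.c.Q_iff rfl rfl] at n
  have k : ∀ g, s * g * s⁻¹ ∈ D ↔ g ∈ D := fun g =>
    ⟨fun h => by simpa [mul_assoc] using t.c.conj _ h s⁻¹, fun h => t.c.conj _ h s⟩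
  rw [conj_mul, k, k]
  refine ⟨t.not_both hg n, fun h => ?_⟩
  obtain ⟨r, r1, r2, r3⟩ := ex
  obtain ⟨q, hq, e | e⟩ := t.conj_inv hg.cz r2.cz hg.sq r2.sq n (t.ma_idx hg r2 n r3)
  · exact e ▸ t.c.conj r r1 q
  · refine absurd ?_ h
    rw [e, ← mul_assoc q, X.lx.cen q hq, mul_assoc, mul_assoc, zz X.lx, ← mul_assoc]
    exact t.c.conj r r1 q

theorem exists_r : ∃ r ∈ D, r ∈ t.A 0 ∧ r ∉ Q z := by
  obtain ⟨a, a1, a2, -, a4⟩ := t.lift 0 0 0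
  obtain ⟨b, b1, b2, -, b4⟩ := t.lift 0 1 1
  obtain ⟨s, s1, rfl⟩ := t.tr0 a1 (t.p_mem a2 a4)
  refine ⟨_, t.c.conj b b1 s⁻¹, by simpa using mem_cjs.1 (s1.symm ▸ t.p_mem b2 b4), fun h => ?_⟩
  have := (t.T.E_iff.1 ((t.Q_iff a2 a4 b2).1 ((t.c.Q_iff rfl (by group)).2 h))).1 1
  simp [b4, t.T.B_eq] at this

end TG

end Cfsg.Agent.H4.D4
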