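/-
The polar space of the points, and the identification.
-/
import Cfsg.Agent.H4.D4B
import Cfsg.Agent.H4.D4C
import Cfsg.Agent.H4.D4F

set_option autoImplicit false
set_option linter.unusedSectionVars false

namespace Cfsg.Agent.H4.D4

open Subgroup H97 H15 H8 H4.GF DW Equiv

universe u

variable {G : Type u} [Group G] {D : Set G} {Q : G → Subgroup G} {z : G} {Γ V : Type u} [Group Γ]
  [AddCommGroup V] [Module (ZMod 2) V] [DistribMulAction Γ V]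

/-- powers with exponent in the field of order two -/
def pw (a : G) (s : ZMod 2) : G := a ^ s.val

@[simp] theorem pw_zero (a : G) : pw a 0 = 1 := pow_zero a

@[simp] theorem pw_one (a : G) : pw a 1 = a := pow_one a

theorem pw_mem {A : Subgroup G} {a : G} (h : a ∈ A) (s : ZMod 2) : pw a s ∈ A := pow_mem h _

/-- homomorphisms into `A` -/
def HA (A : Subgroup G) (κ : W 3 → G) : Prop := (∀ c, κ c ∈ A) ∧ ∀ c c', κ (c + c') = κ c * κ c'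

theorem HA.pw {A : Subgroup G} {a : G} (h : a ∈ A) (h2 : a * a = 1) (i : I 3) : HA A fun c => pw a (c i) :=
  ⟨fun _ => pw_mem h _, fun c c' => by
    simp only [Pi.add_apply]
    rcases z2c (c i) with e | e <;> rcases z2c (c' i) with f | f <;> simp [e, f, h2, z2_add_self]⟩

theorem HA.mul {A : Subgroup G} (hA : ∀ a ∈ A, ∀ b ∈ A, a * b = b * a) {κ μ : W 3 → G} (h : HA A κ)
    (h' : HA A μ) : HA A fun c => κ c * μ c :=
  ⟨fun c => mul_mem (h.1 c) (h'.1 c), fun c c' => by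
    beta_reduce
    rw [h.2, h'.2, mul_assoc, mul_assoc, ← mul_assoc (κ c'), hA _ (h.1 c') _ (h'.1 c), mul_assoc]⟩

theorem conj_surj (g a : G) : ∃ b, g * b * g⁻¹ = a := ⟨g⁻¹ * a * g, by group⟩

theorem Dc (c : Cx D Q) {g a : G} : g * a * g⁻¹ ∈ D ↔ a ∈ D :=
  ⟨fun h => by simpa [mul_assoc] using c.conj _ h g⁻¹, fun h => c.conj _ h g⟩

theorem x1 (c : Cx D Q) {d g : G} (hd : d ∈ D) (h : g ∈ Q d) : g ∈ D ∨ g = 1 ↔ d * g ∈ D ∨ d * g = 1 := by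
  have L := c.lx d hd
  have k : ∀ g ∈ Q d, g ∈ D ∨ g = 1 → d * g ∈ D ∨ d * g = 1 := by
    rintro g h (e | rfl)
    · by_cases n : g = d
      · exact Or.inr (n ▸ L.sq)
      · exact Or.inl (c.zmul hd e h n)
    · exact Or.inl (by rwa [mul_one])
  exact ⟨k g h, fun e => by simpa only [zz L] using k _ (mul_mem L.mem h) e⟩

namespace TG

variable [Finite G] [Finite V] [Finite Γ] {X : Br (Q z) z Γ V} {ε : Γ ≃* S3 × S3 × S3}
  {p : Fin 3 → Fin 3 → Fin 3 → V} (t : TG D X ε p)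
include t

theorem x2' {d g : G} (hd : d ∈ D) (h : d ∈ t.A 0) (hg : g ∈ t.A 0) (n : g ∉ Q d) :
    g ∈ D ∨ g = 1 ↔ ¬ (d * g ∈ D ∨ d * g = 1) := by
  have n1 : g ≠ 1 := fun e => n (e ▸ one_mem _)
  have n2 : d * g ≠ 1 := fun e =>
    n (((Q d).mul_mem_cancel_left (t.c.lx d hd).mem).1 (e ▸ one_mem _))
  simpa [n1, n2] using t.x2 hd h hg n t.exists_r

theorem π_pw {a : G} (s : ZMod 2) : X.π (pw a s) = s • X.π a := by
  rcases z2c s with rfl | rfl <;> simp [X.π_one]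

theorem co {r : G} (r1 : r ∈ D) (r2 : r ∈ t.A 0) (r3 : r ∉ Q z) :
    ∃ κ, Co D Q (t.A 0) κ ∧ κ (ev (.inl 0)) = z ∧ κ (ev (.inr 0)) = r := by
  have zr : z ∉ Q r := fun h => r3 (t.c.symm r1 t.hz h)
  have lf : ∀ y u, ∃ a ∈ Q z, a ∈ Q r ∧ X.π a = p 0 y u := fun y u => by
    obtain ⟨a, -, a2, -, a4⟩ := t.lift 0 y u
    by_cases n : a ∈ Q r
    · exact ⟨a, a2, n, a4⟩
    · exact ⟨_, mul_mem X.lx.mem a2, t.idx r1 r2 (t.z_mem 0) (t.p_mem a2 a4) zr n, by rw [X.π_zmul a2, a4]⟩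
  choose a a1 a2 a3 using lf
  have cm : ∀ a ∈ t.A 0, ∀ b ∈ t.A 0, a * b = b * a := fun a ha b hb => t.ma_comm ha hb
  have ha := fun y u => HA.pw (t.p_mem (a1 y u) (a3 y u)) (t.p_mem (a1 y u) (a3 y u)).sq
  obtain ⟨μ, hμ, m1, m2, m3, m4⟩ : ∃ μ, HA (t.A 0) μ ∧ (∀ c, μ c ∈ Q z) ∧ (∀ c, μ c ∈ Q r) ∧
      (∀ c, X.π (μ c) = TM.ν p (c (.inl 1)) (c (.inr 1)) (c (.inl 2)) (c (.inr 2))) ∧
      ∀ c, c (.inl 1) = 0 ∧ c (.inr 1) = 0 ∧ c (.inl 2) = 0 ∧ c (.inr 2) = 0 → μ c = 1 := by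
    have k := fun y u s => pw_mem (a1 y u) s
    have k' := fun y u s => pw_mem (a2 y u) s
    refine ⟨_, (((ha 0 0 (.inl 1)).mul cm (ha 1 1 (.inr 1))).mul cm (ha 0 1 (.inl 2))).mul cm
      (ha 1 0 (.inr 2)), fun c => mul_mem (mul_mem (mul_mem (k _ _ _) (k _ _ _)) (k _ _ _)) (k _ _ _),
      fun c => mul_mem (mul_mem (mul_mem (k' _ _ _) (k' _ _ _)) (k' _ _ _)) (k' _ _ _), fun c => ?_,
      fun c h => by simp [h]⟩
    rw [X.π_mul _ (mul_mem (mul_mem (k _ _ _) (k _ _ _)) (k _ _ _)) _ (k _ _ _),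
      X.π_mul _ (mul_mem (k _ _ _) (k _ _ _)) _ (k _ _ _), X.π_mul _ (k _ _ _) _ (k _ _ _)]
    simp only [t.π_pw, a3, TM.ν]
  have m5 : ∀ c, μ c = 1 → c (.inl 1) = 0 ∧ c (.inr 1) = 0 ∧ c (.inl 2) = 0 ∧ c (.inr 2) = 0 := fun c h => by
    obtain ⟨h1, h2, h3, h4, -⟩ := t.T.ν_B (c (.inl 1)) (c (.inr 1)) (c (.inl 2)) (c (.inr 2))
    rw [← m3, h, X.π_one] at h1 h2 h3 h4
    simpa [eq_comm] using And.intro h1 (And.intro h2 (And.intro h3 h4))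
  have m6 : ∀ c, μ c ∈ D ∨ μ c = 1 ↔ c (.inl 1) * c (.inr 1) + c (.inl 2) * c (.inr 2) = 0 := fun c => by
    have := t.D_iff (m1 c)
    rw [m3, t.T.pure, and_iff_left fun e : μ c = z => zr (e ▸ m2 c)] at this
    rw [this]
    refine ⟨fun h => h.elim (·.2) fun e => by simp [m5 c e], fun h => ?_⟩
    exact (em _).symm.imp (⟨·, h⟩) (m4 c)
  obtain ⟨κ, kk, hκ⟩ : ∃ κ, (∀ c, κ c = pw z (c (.inl 0)) * (pw r (c (.inr 0)) * μ c)) ∧ HA (t.A 0) κ :=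
    ⟨_, fun _ => rfl, (HA.pw (t.z_mem 0) X.lx.sq (.inl 0)).mul cm ((HA.pw r2 r2.sq (.inr 0)).mul cm hμ)⟩
  have e1 : κ (ev (.inl 0)) = z := by rw [kk, m4 _ (by simp [ev])]; simp [ev]
  have e2 : κ (ev (.inr 0)) = r := by rw [kk, m4 _ (by simp [ev])]; simp [ev]
  have inj : ∀ c, κ c = 1 → c = 0 := fun c h => by
    have k1 : κ c ∈ Q z := h ▸ one_mem _
    have k2 : κ c ∈ Q r := h ▸ one_mem _
    rw [kk, mul_mem_cancel_left (pw_mem X.lx.mem _), mul_mem_cancel_right (m1 c)] at k1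
    rw [kk, mul_mem_cancel_right (mul_mem (pw_mem (t.c.lx r r1).mem _) (m2 c))] at k2
    have h1 : c (.inr 0) = 0 := z2_ne_one fun e => r3 (by simpa [e] using k1)
    have h2 : c (.inl 0) = 0 := z2_ne_one fun e => zr (by simpa [e] using k2)
    obtain ⟨h3, h4, h5, h6⟩ := m5 c (by simpa [kk, h1, h2] using h)
    funext i
    rcases i with i | i <;> fin_cases i <;> assumption
  have mN : ∀ c, κ c ∈ D ∨ κ c = 1 ↔ fq c = 0 := fun c => by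
    rw [kk, fq, quadFormPlus, Fin.sum_univ_three, add_assoc]
    rcases z2c (c (.inl 0)) with e | e <;> rcases z2c (c (.inr 0)) with f | f <;>
      simp only [e, f, pw_zero, pw_one, one_mul, mul_zero, mul_one, zero_add]
    · exact m6 c
    · rw [← x1 t.c r1 (m2 c), m6]
    · rw [← x1 t.c t.hz (m1 c), m6]
    · rw [← not_iff_not, ← t.x2' t.hz (t.z_mem 0) (mul_mem r2 (hμ.1 c))
        (by rwa [mul_mem_cancel_right (m1 c)]), ← x1 t.c r1 (m2 c), m6]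
      generalize c (.inl 1) * c (.inr 1) + c (.inl 2) * c (.inr 2) = s
      revert s; decide
  have sq : ∀ g ∈ t.A 0, g ∈ Q z → ∃ c, κ c = g := by
    intro g hg h
    have := t.T.ν_eq (hg.y h)
    generalize X.M.B (X.π g) (p 1 1 1) = s, X.M.B (X.π g) (p 1 0 0) = s', X.M.B (X.π g) (p 1 1 0) = v,
      X.M.B (X.π g) (p 1 0 1) = v' at this
    have k : κ (Sum.elim ![0, s, v] ![0, s', v']) = μ (Sum.elim ![0, s, v] ![0, s', v']) := by simp [kk]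
    rcases (X.π_eq h (m1 (Sum.elim ![0, s, v] ![0, s', v']))).1 (by rw [m3, ← this]; rfl) with e | e
    · exact ⟨_, k.trans e.symm⟩
    · exact ⟨_, by rw [e, ← k, ← e1, hκ.2]⟩
  have mD : ∀ c, κ c ∈ D ↔ c ≠ 0 ∧ fq c = 0 := fun c =>
    ⟨fun h => ⟨fun e => (t.c.lx _ h).ne (by simp [kk, e, m4 0]), (mN c).1 (Or.inl h)⟩,
      fun h => ((mN c).2 h.2).resolve_right fun e => h.1 (inj c e)⟩
  refine ⟨κ, ⟨hκ.2, hκ.1, fun g hg => ?_, inj, mD, fun c c' h => ?_⟩, e1, e2⟩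
  · by_cases n : g ∈ Q z
    · exact sq g hg n
    obtain ⟨c, e⟩ := sq _ (mul_mem r2 hg) (t.ma_idx' r2 hg r3 n)
    exact ⟨ev (.inr 0) + c, by rw [hκ.2, e, e2, ← mul_assoc, r2.sq, one_mul]⟩
  · have f := ((mD c').1 h).2
    refine ⟨fun m => ?_, fun b => by_contra fun m => ?_⟩
    · have := x1 t.c h m
      rw [← hκ.2, mN, mN, fq_add, f, bq_comm] at this
      revert this
      generalize fq c = s, bq c c' = v
      revert s v; decide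
    · have := t.x2' h (hκ.1 c') (hκ.1 c) m
      rw [← hκ.2, mN, mN, fq_add, f, bq_comm, b] at this
      simp at this

/-- the points -/
def P : Set (Subgroup G) := {B | ∃ g, cjs g (t.A 0) = B}

theorem P_conj {B : Subgroup G} (h : B ∈ t.P) (g : G) : cjs g B ∈ t.P :=
  let ⟨k, e⟩ := h; ⟨g * k, by rw [← cjs_cjs, e]⟩

theorem wlog {B : Subgroup G} (hB : B ∈ t.P) {d : G} (hd : d ∈ D) (h : d ∈ B) :
    ∃ g, g * z * g⁻¹ = d ∧ cjs g (t.A 0) = B := by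
  obtain ⟨k, rfl⟩ := hB
  obtain ⟨d, rfl⟩ := conj_surj k d
  obtain ⟨s, s1, rfl⟩ := t.tr0 ((Dc t.c).1 hd) (conj_mem_cjs.1 h)
  exact ⟨k * s, by group, by rw [← cjs_cjs, s1]⟩

theorem A_mem (x : Fin 3) : t.A x ∈ t.P := by
  obtain ⟨g, hg, e⟩ := X.r_surj (ε.symm (swap 0 x, 1))
  exact ⟨g, by rw [t.A_conj hg, e]; simp⟩

theorem pt {B : Subgroup G} (hB : B ∈ t.P) {g : G} (h : g * z * g⁻¹ ∈ B) : ∃ x, cjs g (t.A x) = B := by
  obtain ⟨k, e, rfl⟩ := t.wlog hB (t.c.conj z t.hz g) h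
  exact ⟨_, by rw [← t.A_conj (h := g⁻¹ * k) (by rw [mul_assoc, mul_inv_eq_iff_eq_mul.1 e]; group) 0,
    cjs_cjs, mul_inv_cancel_left]⟩

theorem adj {a : G} (h1 : a ∈ D) (h2 : a ∈ Q z) : ∃ x, a ∈ t.A x := by
  by_cases n : a = z
  · exact ⟨0, n ▸ t.z_mem 0⟩
  obtain ⟨x, y, u, e⟩ := (t.D_iff h2).1 ⟨h1, n⟩
  exact ⟨x, t.p_mem h2 e.symm⟩

theorem pg : PG D Q t.P where
  cx := t.c
  conj _ := t.P_conj
  trP := by
    rintro _ ⟨g, rfl⟩ _ ⟨k, rfl⟩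
    exact ⟨k * g⁻¹, by rw [cjs_cjs, inv_mul_cancel_right]⟩
  tr A hA d hd e he h1 h2 := by
    obtain ⟨g, rfl, f⟩ := t.wlog hA hd h1
    obtain ⟨k, rfl, f'⟩ := t.wlog hA he h2
    exact ⟨k * g⁻¹, by rw [← cjs_cjs, cjs_inv f, f'], by group⟩
  co := by
    rintro _ ⟨g, rfl⟩
    obtain ⟨r, r1, r2, r3⟩ := t.exists_r
    obtain ⟨κ, k, -⟩ := t.co r1 r2 r3
    exact ⟨_, k.conj t.c g⟩
  co2 A hA d hd e he h1 h2 n := by
    obtain ⟨g, rfl, rfl⟩ := t.wlog hA hd h1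
    obtain ⟨e, rfl⟩ := conj_surj g e
    obtain ⟨κ, k, k1, k2⟩ := t.co ((Dc t.c).1 he) (conj_mem_cjs.1 h2) fun h => n (t.c.Qc _ _ _ h)
    exact ⟨_, k.conj t.c g, by rw [k1], by rw [k2]⟩
  three d hd := by
    obtain ⟨g, rfl⟩ := t.c.trans z t.hz d hd
    refine ⟨fun x => cjs g (t.A x), fun x y e => t.A_inj (cjs_inj e), fun B => ⟨fun h => t.pt h.1 h.2, ?_⟩⟩
    rintro ⟨x, rfl⟩
    exact ⟨t.P_conj (t.A_mem x) g, conj_mem_cjs.2 (t.z_mem x)⟩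
  int A hA B hB n d hd h1 h2 a a1 a2 := by
    obtain ⟨g, rfl⟩ := t.c.trans z t.hz d hd
    obtain ⟨x, rfl⟩ := t.pt hA h1
    obtain ⟨y, rfl⟩ := t.pt hB h2
    obtain ⟨a, rfl⟩ := conj_surj g a
    rcases t.A_int (fun e => n (by rw [e])) (conj_mem_cjs.1 a1) (conj_mem_cjs.1 a2) with rfl | rfl <;> simp
  adj d hd e he h := by
    obtain ⟨g, rfl⟩ := t.c.trans z t.hz d hd
    obtain ⟨e, rfl⟩ := conj_surj g e
    obtain ⟨x, hx⟩ := t.adj ((Dc t.c).1 he) ((t.c.Q_iff rfl rfl).1 h)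
    exact ⟨_, t.P_conj (t.A_mem x) g, conj_mem_cjs.2 (t.z_mem x), conj_mem_cjs.2 hx⟩
  sw A hA B hB n d hd h1 h2 a a1 a2 := by
    obtain ⟨g, rfl⟩ := t.c.trans z t.hz d hd
    obtain ⟨x, rfl⟩ := t.pt hA h1
    obtain ⟨y, rfl⟩ := t.pt hB h2
    obtain ⟨a, rfl⟩ := conj_surj g a
    rw [conj_mem_cjs] at a1
    rw [cjs_cjs, inv_mul_cancel_right, ← cjs_cjs, t.A_conj a1.cz] at a2
    refine t.c.Qc _ _ _ ((X.r_eq_one a1.cz).1 (ε.injective ?_))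
    rw [map_one]
    exact Prod.ext ((by decide : ∀ (s : S3) (x y : Fin 3), s x = x ∧ s y = y → x ≠ y → s = 1) _ x y
      ⟨a1.f1, t.A_inj (cjs_inj a2)⟩ fun e => n (by rw [e])) a1.f2
  pl d hd e he h n A hA h1 := by
    obtain ⟨g, rfl⟩ := t.c.trans z t.hz d hd
    obtain ⟨x, rfl⟩ := t.pt hA h1
    obtain ⟨e, rfl⟩ := conj_surj g e
    rw [t.c.Q_iff rfl rfl] at h
    obtain ⟨x', y, u, f⟩ := (t.D_iff h).1 ⟨(Dc t.c).1 he, fun k => n (by rw [k])⟩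
    obtain ⟨a, a1, a2, a3, a4⟩ := t.lift x y u
    exact ⟨_, t.c.conj a a1 g, conj_mem_cjs.2 (t.p_mem a2 a4), t.c.Qc _ _ _ a2,
      t.c.Qc _ _ _ ((t.Q_iff h f.symm a2).2 (a4 ▸ t.T.memE1 x' y u x)), by simpa using a3⟩

theorem conn (g : G) : Ad D Q z (g * z * g⁻¹) := by
  refine connected t.c (𝓟 := {t.P, t.s12.P, t.s13.P}) ?_ ?_ ?_ ?_ t.hz g
  · rintro _ (rfl | rfl | rfl)
    exacts [t.pg, t.s12.pg, t.s13.pg]
  · intro d hd a a1 a2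
    obtain ⟨g, rfl⟩ := t.c.trans z t.hz d hd
    obtain ⟨a, rfl⟩ := conj_surj g a
    rw [conj_mul, conj_eq_one_iff] at a1
    rw [conj_mul, conj_mul, mul_left_inj, mul_right_inj] at a2
    by_cases n : a ∈ Q z
    · exact ⟨_, hd, (t.c.lx _ hd).mem, t.c.Qc _ _ _ n⟩
    have k := congrArg ε (X.r_mul a2 a2)
    rw [a1, X.r_Q (one_mem _), map_one, map_mul] at k
    have fx : ∀ s : S3, 1 = s * s → ∃ x, s x = x := by decide
    obtain ⟨x, hx⟩ := fx _ (congrArg (·.1) k)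
    obtain ⟨y, hy⟩ := fx _ (congrArg (·.2.1) k)
    obtain ⟨u, hu⟩ := fx _ (congrArg (·.2.2) k)
    obtain ⟨e, e1, e2, e3⟩ := t.cov a2 a1 n ⟨hx, hy, hu⟩
    exact ⟨_, t.c.conj e (t.memD e1 e2) g, t.c.Qc _ _ _ e1, t.c.Qc _ _ _ e3⟩
  · intro d hd a a1 b b1 a2 b2 h
    obtain ⟨g, rfl⟩ := t.c.trans z t.hz d hd
    obtain ⟨a, rfl⟩ := conj_surj g a
    obtain ⟨b, rfl⟩ := conj_surj g b
    rw [Dc t.c] at a1 b1
    rw [t.c.Q_iff rfl rfl] at a2 b2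
    rw [conj_mul, conj_mul, mul_left_inj, mul_right_inj] at h
    have k : ∀ {ε p} (t : TG D X ε p) x, a ∈ t.A x → b ∈ t.A x →
        ∃ A ∈ t.P, g * a * g⁻¹ ∈ A ∧ g * b * g⁻¹ ∈ A := fun t x h1 h2 =>
      ⟨_, t.P_conj (t.A_mem x) g, conj_mem_cjs.2 h1, conj_mem_cjs.2 h2⟩
    by_cases n : a = z
    · obtain ⟨x, hx⟩ := t.adj b1 b2
      exact ⟨_, Or.inl rfl, k t x (n ▸ t.z_mem x) hx⟩
    by_cases n' : b = z
    · obtain ⟨x, hx⟩ := t.adj a1 a2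
      exact ⟨_, Or.inl rfl, k t x hx (n' ▸ t.z_mem x)⟩
    obtain ⟨x, y, u, e⟩ := (t.D_iff a2).1 ⟨a1, n⟩
    obtain ⟨x', y', u', e'⟩ := (t.D_iff b2).1 ⟨b1, n'⟩
    rw [← X.B_zero a2 b2, ← e, ← e', t.T.B_eq] at h
    by_cases h1 : x' = x
    · exact ⟨_, Or.inl rfl, k t x (t.p_mem a2 e.symm) (t.p_mem b2 (h1 ▸ e'.symm))⟩
    by_cases h2 : y' = y
    · exact ⟨_, Or.inr (Or.inl rfl), k t.s12 y (t.s12.p_mem a2 e.symm) (t.s12.p_mem b2 (h2 ▸ e'.symm))⟩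
    by_cases h3 : u' = u
    · exact ⟨_, Or.inr (Or.inr rfl), k t.s13 u (t.s13.p_mem a2 e.symm) (t.s13.p_mem b2 (h3 ▸ e'.symm))⟩
    simp [h1, h2, h3] at h
  · intro d hd w w1 w2 w3
    obtain ⟨g, rfl⟩ := t.c.trans z t.hz d hd
    obtain ⟨w, rfl⟩ := conj_surj g w
    rw [t.c.Q_iff rfl rfl] at w1
    obtain ⟨x, y, u, h1, h2⟩ := t.T.exists_f (v := X.π w) fun e =>
      ((X.π_zero w w1).1 e).elim (fun k => w2 (by simp [k])) fun k => w3 (by rw [k])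
    obtain ⟨a, a1, a2, -, a4⟩ := t.lift x y u
    rw [← a4, X.B_zero w1 a2] at h1
    exact ⟨_, t.c.conj a a1 g, t.c.Qc _ _ _ a2, by rw [conj_mul, conj_mul, h1],
      fun k => h2 ((t.Q_iff a2 a4 w1).1 ((t.c.Q_iff rfl rfl).1 k))⟩

theorem cd (g : G) (h : ∀ d ∈ D, g * d = d * g) : g = 1 := by
  have hg := h z t.hz
  have k : ∀ x y u, X.r g • p x y u = p x y u := fun x y u => by
    obtain ⟨a, a1, a2, -, a4⟩ := t.lift x y u
    rw [← a4, X.act hg a2, h a a1, mul_inv_cancel_right]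
  have m := (X.r_eq_one hg).1 (t.T.eq_one (x := 0) (y := 0) (u := 0) (fun _ => k _ _ _)
    (fun _ => k _ _ _) fun _ => k _ _ _)
  refine ((X.π_zero g m).1 (t.T.span fun x y u => ?_)).resolve_right ?_
  · obtain ⟨a, a1, a2, -, a4⟩ := t.lift x y u
    rw [← a4, X.B_zero m a2, h a a1]
  · rintro rfl
    obtain ⟨a, a1, a2, -, a4⟩ := t.lift 0 0 0
    obtain ⟨b, b1, b2, -, b4⟩ := t.lift 1 1 1
    obtain ⟨s, rfl⟩ := t.c.trans g t.hz a a1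
    obtain ⟨b, rfl⟩ := conj_surj s b
    have := (X.B_zero a2 b2).2 (by rw [conj_mul, conj_mul, h b ((Dc t.c).1 b1)])
    simp [a4, b4, t.T.B_eq] at this

theorem iso (hC : 110592 ≤ Nat.card (centralizer ({z} : Set G))) (hres : pResidual 2 G = ⊤) :
    Nonempty (G ≃* Omega (ZMod 2) (quadFormPlus 4 (ZMod 2))) := by
  refine t.pg.iso ?_ t.hz hC t.cd hres
  rintro _ ⟨g, rfl⟩ _ ⟨k, rfl⟩
  refine t.pg.near_of_ad (ad_conj t.c g (t.conn (g⁻¹ * k))) (t.c.conj z t.hz g) ⟨g, rfl⟩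
    (conj_mem_cjs.2 (t.z_mem 0)) _ ⟨k, rfl⟩ ?_
  rw [show g * (g⁻¹ * k * z * (g⁻¹ * k)⁻¹) * g⁻¹ = k * z * k⁻¹ by group]
  exact conj_mem_cjs.2 (t.z_mem 0)

end TG

end Cfsg.Agent.H4.D4
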