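import Cfsg.Agent.H13.R2
import Cfsg.Agent.H44.Cores
import Cfsg.Agent.S0009
import Cfsg.Agent.S0044
import Cfsg.Agent.S0144

set_option autoImplicit false

/-! General lemmas for the conjugate type `(nm, m, n, 1)`. -/

namespace Cfsg.Agent.H4.Cs

open Subgroup H83 H8

variable {G : Type*} [Group G] [Finite G]

local notation "𝒞[" x "]" => Subgroup.centralizer {x}

theorem rel_dvd {H N D : Subgroup G} [hN : N.Normal] (h : N ≤ D) :
    H.relIndex N ∣ H.relIndex D := by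
  rw [← relIndex_subgroupOf (H := H) h]
  exact H19.relIndex_dvd_index_of_normal_right _ _

theorem commute_of_conj {x y g : G} (hc : (cs(x)).Coprime (cs(y)))
    (h : Commute (g * x * g⁻¹) y) : Commute x y := by
  obtain ⟨d, hd, c, hc', rfl⟩ := H1.mul_eq_of_coprime (𝒞[y]) (𝒞[x]) hc.symm g
  have e1 : c * x * c⁻¹ = x := mem_cent'.1 hc'
  have e2 : d * y * d⁻¹ = y := mem_cent'.1 hd
  have e3 : d * c * x * (d * c)⁻¹ = d * x * d⁻¹ := by
    calc d * c * x * (d * c)⁻¹ = d * (c * x * c⁻¹) * d⁻¹ := by group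
      _ = _ := by rw [e1]
  rw [e3, ← e2] at h
  have := h.eq
  show x * y = y * x
  calc x * y = d⁻¹ * (d * x * d⁻¹ * (d * y * d⁻¹)) * d := by group
    _ = d⁻¹ * (d * y * d⁻¹ * (d * x * d⁻¹)) * d := by rw [this]
    _ = y * x := by group

omit [Finite G] in
theorem ncard_conj (H : Subgroup G) (x : G) :
    (Set.range fun h : H => (h : G) * x * (h : G)⁻¹).ncard = (𝒞[x]).relIndex H := by
  let _ : MulAction H G := MulAction.compHom G (MulAut.conj.comp H.subtype)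
  have h1 : MulAction.stabilizer H x = (𝒞[x]).subgroupOf H := by
    ext h
    rw [MulAction.mem_stabilizer_iff, mem_subgroupOf, mem_cent']
    rfl
  have h2 := MulAction.index_stabilizer H x
  rw [h1] at h2
  exact h2.symm

/-- A `p`-subgroup that is normal lies in every subgroup of index prime to `p`. -/
theorem le_of_not_dvd {p : ℕ} (hp : p.Prime) {N H D : Subgroup G} [N.Normal] (hN : IsPGroup p N)
    (hND : N ≤ D) (h : ¬ p ∣ H.relIndex D) : N ≤ H := by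
  have := Fact.mk hp
  obtain ⟨k, hk⟩ := IsPGroup.iff_card.1 hN
  obtain ⟨j, -, hj⟩ := (Nat.dvd_prime_pow hp).1 (hk ▸ relIndex_dvd_card (H := H) (K := N))
  have hd := rel_dvd (H := H) hND
  rw [hj] at hd
  rcases j with _ | j
  · exact relIndex_eq_one.1 (by simpa using hj)
  · exact absurd ((dvd_pow_self p (Nat.succ_ne_zero j)).trans hd) h

theorem sr {V P : Subgroup G} [hV : V.Normal] (hc : ∀ a ∈ V, ∀ b ∈ V, Commute a b) {z : G}
    (hz : z ∈ P) (hcop : ∀ w ∈ V, w ^ orderOf z = 1 → w = 1)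
    (hzP : ∀ g ∈ P, ∀ v ∈ V, g * (z * v * z⁻¹) * g⁻¹ = z * (g * v * g⁻¹) * z⁻¹)
    {k : ℕ} (hk : ∀ v ∈ V, v ∉ center G → (𝒞[v]).relIndex P = k)
    {v₀ : G} (hv₀ : v₀ ∈ V) (hne : ¬ Commute z v₀) :
    (∀ v ∈ V, Commute z v → v ∈ center G) ∧ k < (𝒞[z]).relIndex V := by
  have hφ : ∀ v ∈ V, z * v * z⁻¹ * v⁻¹ ∈ V := fun v hv =>
    mul_mem (hV.conj_mem v hv z) (inv_mem hv)
  have hB : ∀ v ∈ V, Commute z (z * v * z⁻¹ * v⁻¹) → z * v * z⁻¹ * v⁻¹ = 1 := by
    intro v hv h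
    set w := z * v * z⁻¹ * v⁻¹ with hw
    have e : z * v = w * v * z := by rw [hw]; group
    have key : ∀ j : ℕ, z ^ j * v = w ^ j * v * z ^ j := by
      intro j
      induction j with
      | zero => simp
      | succ j ih =>
        calc z ^ (j + 1) * v = z * (z ^ j * v) := by rw [pow_succ']; group
          _ = (z * w ^ j) * v * z ^ j := by rw [ih]; group
          _ = w ^ j * (z * v) * z ^ j := by rw [(h.pow_right j).eq]; group
          _ = w ^ (j + 1) * v * z ^ (j + 1) := by rw [e, pow_succ w, pow_succ' z]; group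
    have := key (orderOf z)
    rw [pow_orderOf_eq_one, one_mul, mul_one] at this
    exact hcop w (hφ v hv) (by simpa using this.symm)
  set v₁ := z * v₀ * z⁻¹ * v₀⁻¹ with hv₁
  have h1V : v₁ ∈ V := hφ v₀ hv₀
  have h1ne : v₁ ≠ 1 := fun h => hne (by
    show z * v₀ = v₀ * z
    calc z * v₀ = (z * v₀ * z⁻¹ * v₀⁻¹) * v₀ * z := by group
      _ = v₀ * z := by rw [← hv₁, h]; group)
  have h1z : ¬ Commute z v₁ := fun h => h1ne (hB v₀ hv₀ h)
  have h1c : v₁ ∉ center G := fun h => h1z (mem_center_iff.1 h z)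
  have hC : ∀ g ∈ P, g * v₁ * g⁻¹ = z * (g * v₀ * g⁻¹) * z⁻¹ * (g * v₀ * g⁻¹)⁻¹ := by
    intro g hg
    rw [← hzP g hg v₀ hv₀, hv₁]; group
  constructor
  · intro v₂ h2V h2z
    by_contra h2c
    have h12z : ¬ Commute z (v₁ * v₂) := fun h => h1z (by
      have := h.mul_right h2z.inv_right
      rwa [mul_inv_cancel_right] at this)
    have h12c : v₁ * v₂ ∉ center G := fun h => h12z (mem_center_iff.1 h z)
    have hle : 𝒞[v₁ * v₂] ⊓ P ≤ 𝒞[v₂] ⊓ P := by
      rintro g ⟨hg, hgP⟩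
      refine ⟨?_, hgP⟩
      have e : g * (v₁ * v₂) * g⁻¹ = v₁ * v₂ := mem_cent'.1 hg
      set u := g * v₀ * g⁻¹ with hu
      have huV : u ∈ V := hV.conj_mem v₀ hv₀ g
      have hw : z * (v₀⁻¹ * u) * z⁻¹ * (v₀⁻¹ * u)⁻¹ = v₂ * (g * v₂ * g⁻¹)⁻¹ := by
        have a1 : v₁⁻¹ * (g * v₁ * g⁻¹) = v₂ * (g * v₂ * g⁻¹)⁻¹ := by
          calc v₁⁻¹ * (g * v₁ * g⁻¹) = v₁⁻¹ * (g * (v₁ * v₂) * g⁻¹) * (g * v₂ * g⁻¹)⁻¹ := by group
            _ = _ := by rw [e]; group
        rw [← a1, hC g hgP, ← hu, hv₁]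
        have c1 := (hc _ hv₀ _ (hφ _ (mul_mem (inv_mem hv₀) huV))).eq
        calc z * (v₀⁻¹ * u) * z⁻¹ * (v₀⁻¹ * u)⁻¹
            = (z * (v₀⁻¹ * u) * z⁻¹ * (v₀⁻¹ * u)⁻¹ * v₀) * v₀⁻¹ := by group
          _ = v₀ * (z * (v₀⁻¹ * u) * z⁻¹ * (v₀⁻¹ * u)⁻¹) * v₀⁻¹ := by rw [c1]
          _ = _ := by group
      have hzc : Commute z (g * v₂ * g⁻¹) := by
        have a := hzP g hgP v₂ h2V
        have b : z * v₂ * z⁻¹ = v₂ := by rw [h2z.eq]; group
        rw [b] at a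
        show z * (g * v₂ * g⁻¹) = (g * v₂ * g⁻¹) * z
        calc z * (g * v₂ * g⁻¹) = z * (g * v₂ * g⁻¹) * z⁻¹ * z := by group
          _ = _ := by rw [← a]
      have := hB _ (mul_mem (inv_mem hv₀) huV) (by rw [hw]; exact h2z.mul_right hzc.inv_right)
      rw [hw, mul_inv_eq_one] at this
      exact mem_cent'.2 this.symm
    have e1 := hk _ (mul_mem h1V h2V) h12c
    have e2 := hk _ h2V h2c
    rw [← inf_relIndex_right] at e1 e2
    have e3 : (𝒞[v₁ * v₂] ⊓ P).index = (𝒞[v₂] ⊓ P).index := by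
      rw [← relIndex_mul_index (inf_le_right : 𝒞[v₁ * v₂] ⊓ P ≤ P),
        ← relIndex_mul_index (inf_le_right : 𝒞[v₂] ⊓ P ≤ P), e1, e2]
    have e4 := eq_of_le_of_index_eq hle e3
    have : z ∈ 𝒞[v₁ * v₂] ⊓ P := e4 ▸ ⟨mem_cent.2 h2z.eq, hz⟩
    exact h12z (mem_cent.1 this.1)
  · rw [← hk v₁ h1V h1c, ← ncard_conj, ← ncard_conj]
    have hinj : Function.Injective fun w : G => z * w⁻¹ := fun a b h => by simpa using h
    rw [← Set.ncard_image_of_injective (Set.range fun h : V => (h : G) * z * (h : G)⁻¹) hinj]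
    refine Set.ncard_lt_ncard ⟨?_, fun h => ?_⟩ (Set.toFinite _)
    · rintro _ ⟨g, rfl⟩
      refine ⟨_, ⟨⟨g * v₀ * (g : G)⁻¹, hV.conj_mem v₀ hv₀ g⟩, rfl⟩, ?_⟩
      simp only
      rw [hC g g.2]; group
    · obtain ⟨g, hg⟩ := h (a := 1) ⟨_, ⟨1, rfl⟩, by simp⟩
      simp only at hg
      exact h1ne (by simpa using hg)

theorem exists_z {p : ℕ} (hp : p.Prime) {V P : Subgroup G} [hV : V.Normal] (hP : IsPGroup p P)
    (h : ¬ P ≤ centralizer (V : Set G)) : ∃ z ∈ P, (∃ v ∈ V, ¬ Commute z v) ∧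
      ∀ g ∈ P, ∀ v ∈ V, g * (z * v * z⁻¹) * g⁻¹ = z * (g * v * g⁻¹) * z⁻¹ := by
  have := Fact.mk hp
  set K : Subgroup P := (centralizer (V : Set G)).subgroupOf P with hK
  have hKn : K.Normal := inferInstance
  have hnt : Nontrivial (P ⧸ K) := by
    rw [← not_subsingleton_iff_nontrivial]
    intro hs
    exact h (subgroupOf_eq_top.1 (QuotientGroup.subgroup_eq_top_of_subsingleton K hs))
  obtain ⟨⟨zb, hzb⟩, hne⟩ := (hP.to_quotient K).center_nontrivial |>.exists_pair_ne |> fun ⟨a, b, hab⟩ =>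
    (⟨a * b⁻¹, fun e => hab (mul_inv_eq_one.1 e)⟩ : ∃ c : center (P ⧸ K), c ≠ 1)
  obtain ⟨z, rfl⟩ := QuotientGroup.mk_surjective zb
  refine ⟨z, z.2, ?_, fun g hg v hv => ?_⟩
  · by_contra hc
    push Not at hc
    apply hne
    ext
    exact (QuotientGroup.eq_one_iff z).2 (mem_subgroupOf.2 fun v hv => (hc v hv).symm.eq)
  · have e := mem_center_iff.1 hzb ((⟨g, hg⟩ : P) : P ⧸ K)
    rw [← QuotientGroup.mk_mul, ← QuotientGroup.mk_mul, QuotientGroup.eq, mem_subgroupOf] at e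
    have e2 := e v hv
    simp only [coe_mul, coe_inv] at e2
    calc g * (z * v * (z : G)⁻¹) * g⁻¹
        = g * z * (v * ((g * z)⁻¹ * (z * g))) * g⁻¹ * (z : G)⁻¹ := by group
      _ = g * z * (((g * z)⁻¹ * (z * g)) * v) * g⁻¹ * (z : G)⁻¹ := by rw [e2]
      _ = _ := by group

theorem solvable_of_two {p q : ℕ} (hp : p.Prime) (hq : q.Prime)
    (h : ∀ t : ℕ, t.Prime → t ≠ p → t ≠ q → ∀ v : G, PE t v → v ∈ center G) :
    Group.IsSolvable G := by
  have h0 : (center G).index ≠ 0 := index_ne_zero_of_finite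
  obtain ⟨a, k, hk, e⟩ := Nat.exists_eq_pow_mul_and_not_dvd h0 p hp.one_lt.ne'
  have hk0 : k ≠ 0 := fun h' => h0 (by rw [e, h', mul_zero])
  have e2 := Nat.eq_prime_pow_of_unique_prime_dvd (p := q) hk0 fun {t} ht hd => by
    by_contra hne
    have hd' : t ∣ (center G).relIndex ⊤ := by
      rw [relIndex_top_right, e]; exact hd.mul_left _
    obtain ⟨v, -, hv, hvz⟩ := exists_PE_of_dvd_relIndex ht hd'
    exact hvz (h t ht (fun c => hk (c ▸ hd)) hne v hv)
  have hs : Group.IsSolvable (G ⧸ center G) :=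
    S0144.result p q a _ hp hq (by rw [← e2, ← e]; rfl)
  have hz : Group.IsSolvable (center G) :=
    Group.isSolvable_of_comm fun a b => Subtype.ext (mem_center_iff.1 b.2 a)
  exact Group.isSolvable_of_ker_le_range (center G).subtype (QuotientGroup.mk' (center G))
    (by rw [QuotientGroup.ker_mk', range_subtype])

theorem mem_sup_of_cent [Group.IsSolvable G] {p : ℕ}
    (h : ∀ t : ℕ, t.Prime → t ≠ p → pCore t G ≤ center G) {g : G}
    (hg : ∀ u ∈ pCore p G, Commute g u) : ∃ u ∈ pCore p G, ∃ z ∈ center G, u * z = g := by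
  have h1 : fittingSubgroup G ≤ 𝒞[g] := by
    rw [S0009.result]
    refine iSup_le fun t u hu => ?_
    by_cases c : (t : ℕ) = p
    · exact mem_cent.2 (hg u (c ▸ hu)).symm.eq
    · exact mem_cent.2 (mem_center_iff.1 (h t t.2 c hu) g).symm
  have h2 : g ∈ fittingSubgroup G := S0044.result fun u hu => mem_cent.1 (h1 hu)
  have h3 : fittingSubgroup G ≤ pCore p G ⊔ center G := by
    rw [S0009.result]
    refine iSup_le fun t => ?_
    by_cases c : (t : ℕ) = p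
    · exact c ▸ le_sup_left
    · exact (h t t.2 c).trans le_sup_right
  exact H19.mem_sup_normal_right.1 (h3 h2)

theorem mem_pCore_of_cent [Group.IsSolvable G] {p : ℕ}
    (h : ∀ t : ℕ, t.Prime → t ≠ p → pCore t G ≤ center G) {g : G} (hpg : PE p g)
    (hg : ∀ u ∈ pCore p G, Commute g u) : g ∈ pCore p G := by
  obtain ⟨u, hu, z, hz, e⟩ := mem_sup_of_cent h hg
  have e2 : z = u⁻¹ * g := by rw [← e]; group
  have hpz : PE p z := e2 ▸ (PE.of_mem H44.pCore_isPGroup hu).inv.mul hpg (hg u hu).symm.inv_left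
  have hn : (zpowers z).Normal := ⟨fun w hw g => by
    rwa [mem_center_iff.1 ((zpowers_le.2 hz) hw) g, mul_inv_cancel_right]⟩
  exact e ▸ mul_mem hu (H44.le_pCore hn hpz.isPGroup_zpowers (mem_zpowers z))

theorem mem_center_of_cent [Group.IsSolvable G] {p q : ℕ} (hp : p.Prime) (hq : q.Prime)
    (hpq : p ≠ q) (h : ∀ t : ℕ, t.Prime → t ≠ p → pCore t G ≤ center G) {g : G} (hqg : PE q g)
    (hg : ∀ u ∈ pCore p G, Commute g u) : g ∈ center G := by
  obtain ⟨u, hu, z, hz, e⟩ := mem_sup_of_cent h hg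
  obtain ⟨k, hk⟩ := hqg
  have c : Commute u z := mem_center_iff.1 hz u
  rw [← e, c.mul_pow, mul_eq_one_iff_eq_inv] at hk
  have : u ∈ center G := (PE.of_mem H44.pCore_isPGroup hu).mem_of_pow_mem
    (((Nat.coprime_primes hp hq).2 hpq).pow_right k) (hk ▸ inv_mem (pow_mem hz _))
  exact e ▸ mul_mem this hz

end Cfsg.Agent.H4.Cs
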