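import Cfsg.Agent.H4.CsA
import Cfsg.Agent.S4127

set_option autoImplicit false

/-! Conjugate type `(nm, m, n, 1)`: reduction to prime powers. -/

namespace Cfsg.Agent.H4.Cs

open Subgroup H83 H8

variable {G : Type*} [Group G] [Finite G] {n m : ℕ}

local notation "𝒞[" x "]" => Subgroup.centralizer {x}

structure FS (G : Type*) [Group G] (n m : ℕ) : Prop where
  hn : 1 < n
  hm : 1 < m
  cop : n.Coprime m
  cases : ∀ x : G, cs(x) = 1 ∨ cs(x) = n ∨ cs(x) = m ∨ cs(x) = n * m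
  exn : ∃ x : G, cs(x) = n
  exm : ∃ x : G, cs(x) = m
  exnm : ∃ x : G, cs(x) = n * m

namespace FS

variable (F : FS G n m)
include F

omit [Finite G] in
theorem symm : FS G m n :=
  ⟨F.hm, F.hn, F.cop.symm, fun x => by rw [mul_comm]; have := F.cases x; tauto, F.exm, F.exn,
    by rw [mul_comm]; exact F.exnm⟩

omit [Finite G] in
theorem ndvd : ¬ n ∣ m := fun h => F.hn.ne' (Nat.eq_one_of_dvd_coprimes F.cop dvd_rfl h)

omit [Finite G] in
theorem np {p : ℕ} (hp : p.Prime) (h : p ∣ m) : ¬ p ∣ n := fun h' =>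
  hp.one_lt.ne' (Nat.eq_one_of_dvd_coprimes F.cop h' h)

omit [Finite G] in
theorem nc {x : G} (h : m ∣ cs(x)) : x ∉ center G := fun hx => by
  rw [cs_eq_one_iff.2 hx] at h
  exact F.hm.ne' (Nat.dvd_one.1 h)

omit [Finite G] in
theorem of_dvd {y : G} (h : cs(y) ∣ m) (hy : y ∉ center G) : cs(y) = m := by
  rcases F.cases y with c | c | c | c
  · exact absurd (cs_eq_one_iff.1 c) hy
  · exact absurd (c ▸ h) F.ndvd
  · exact c
  · exact absurd ((dvd_mul_right n m).trans (c ▸ h)) F.ndvd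

omit [Finite G] in
theorem rel {x u : G} (hx : cs(x) = m) (hc : Commute x u)
    (hcop : (orderOf x).Coprime (orderOf u)) :
    (𝒞[u]).relIndex 𝒞[x] = 1 ∨ (𝒞[u]).relIndex 𝒞[x] = n := by
  have e := cs_mul_of_coprime hc hcop
  rw [hx] at e
  have hm := F.hm
  rcases F.cases (x * u) with c | c | c | c <;> rw [e] at c
  · exact .inl (Nat.eq_one_of_mul_eq_one_right c)
  · exact absurd (Dvd.intro_left _ c) F.symm.ndvd
  · exact .inl (by nlinarith [(Nat.mul_eq_right (by omega)).1 c])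
  · exact .inr (Nat.eq_of_mul_eq_mul_right (by omega) c)

theorem top {w v : G} (hw : cs(w) = n * m) (hc : Commute w v)
    (hcop : (orderOf w).Coprime (orderOf v)) : 𝒞[w] ≤ 𝒞[v] := by
  have e := cs_mul_of_coprime hc hcop
  rw [hw] at e
  have hm := F.hm
  have hn := F.hn
  have h0 : 0 < (𝒞[v]).relIndex 𝒞[w] :=
    Nat.pos_of_ne_zero fun h => cs_ne_zero (w * v) (by rw [e, h, zero_mul])
  have h1 : cs(w * v) ≤ n * m := by
    rcases F.cases (w * v) with c | c | c | c <;> rw [c] <;> nlinarith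
  rw [e] at h1
  refine relIndex_eq_one.1 (le_antisymm ?_ h0)
  exact Nat.le_of_mul_le_mul_right (by rwa [one_mul]) (show 0 < n * m by positivity)

theorem other {t : ℕ} (ht : t.Prime) (h1 : ¬ t ∣ n) (h2 : ¬ t ∣ m) {v : G} (hv : PE t v) :
    v ∈ center G := by
  have : 𝒞[v] = ⊤ := eq_top_of_forall_conj_mem fun g => by
    have hd : ¬ t ∣ (𝒞[g]).relIndex ⊤ := by
      rw [relIndex_top_right]
      rcases F.cases g with c | c | c | c <;> rw [c]
      · exact ht.not_dvd_one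
      · exact h1
      · exact h2
      · exact fun h => ((Nat.Prime.dvd_mul ht).1 h).elim h1 h2
    obtain ⟨k, -, hk⟩ := exists_conj_mem_of_not_dvd le_top ht hd (mem_top v) hv
    refine ⟨k⁻¹, mem_cent.2 ?_⟩
    have := mem_cent.1 hk
    calc k⁻¹ * g * k⁻¹⁻¹ * v = k⁻¹ * (g * (k * v * k⁻¹)) * k := by group
      _ = k⁻¹ * ((k * v * k⁻¹) * g) * k := by rw [this]
      _ = _ := by group
  exact cs_eq_one_iff.1 (by rw [this, index_top])

theorem exPE : ∃ (s : ℕ) (x : G), s.Prime ∧ PE s x ∧ cs(x) = m := by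
  obtain ⟨x, hx⟩ := F.exm
  obtain ⟨s, hs, y, hy, hsy, hyz⟩ := exists_PE_of_not_mem (F.nc hx.symm.dvd)
  exact ⟨s, y, hs, hsy, F.of_dvd (hx ▸ cs_dvd_of_mem_zpowers hy) hyz⟩

theorem comm {s : ℕ} (hs : s.Prime) (hsn : ¬ s ∣ n) {x y : G} (hsx : PE s x) (hx : cs(x) = m)
    (hy : cs(y) = n) : Commute x y := by
  obtain ⟨k, -, hk⟩ := exists_conj_mem_of_not_dvd (le_top : 𝒞[y] ≤ ⊤) hs
    (by rwa [relIndex_top_right, hy]) (mem_top x) hsx
  exact commute_of_conj (by rw [hx, hy]; exact F.cop.symm) (mem_cent.1 hk)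

/-- the alternatives of `H13.r2` inside the centraliser of a prime-power element. -/
theorem key {s : ℕ} (hs : s.Prime) {x : G} (hsx : PE s x) (hx : cs(x) = m) :
    (∀ u ∈ 𝒞[x], (orderOf u).Coprime s → ∃ k : ℕ, (𝒞[u]).relIndex 𝒞[x] = s ^ k) ∨
    ∃ r : ℕ, r.Prime ∧ r ≠ s ∧ ∀ t : ℕ, t.Prime → t ≠ s → t ≠ r → ∀ v ∈ 𝒞[x], PE t v →
      𝒞[x] ≤ 𝒞[v] := by
  have h : ∀ u : 𝒞[x], (orderOf u).Coprime s → cs(u) = 1 ∨ cs(u) = n := fun u hu => by
    rw [cs_subgroup]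
    refine F.rel hx (mem_cent.1 u.2).symm (hsx.coprime ?_)
    rw [orderOf_coe]; exact hu.symm
  rcases H13.r2 hs h with H | ⟨r, hr, hrs, H⟩
  · refine .inl fun u hu hc => ?_
    have := H ⟨u, hu⟩ (by rwa [← orderOf_coe])
    rwa [cs_subgroup] at this
  · refine .inr ⟨r, hr, hrs, fun t ht h1 h2 v hv htv g hg => mem_cent.2 ?_⟩
    exact congrArg Subtype.val (mem_center_iff.1 (H t ht h1 h2 ⟨v, hv⟩ (PE.coe.1 htv)) ⟨g, hg⟩)

theorem two_a {p : ℕ} (hp : p.Prime) (hpm : p ∣ m) {w : G} (hpw : PE p w) (hw : cs(w) = m)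
    {t : ℕ} (ht : t.Prime) {y : G} (hty : PE t y) (hy : cs(y) = n) {s : ℕ} (hs : s.Prime)
    (hsn : s ∣ n) : s = t := by
  have := Fact.mk hp
  have hpn := F.np hp hpm
  have hc := F.comm hp hpn hpw hw hy
  have hyC : y ∈ 𝒞[w] := mem_cent.2 hc.symm.eq
  have hsp : s ≠ p := fun c => hpn (c ▸ hsn)
  have hd : s ∣ (𝒞[y]).relIndex 𝒞[w] := by
    have e := relIndex_mul_index (inf_le_right : 𝒞[y] ⊓ 𝒞[w] ≤ 𝒞[w])
    rw [inf_relIndex_right, hw] at e
    have h1 : s ∣ (𝒞[y] ⊓ 𝒞[w]).index := hsn.trans (hy ▸ index_dvd_of_le inf_le_left)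
    rw [← e] at h1
    exact ((Nat.Prime.dvd_mul hs).1 h1).resolve_right (F.symm.np hs hsn)
  obtain ⟨v, hv, hsv, hvy⟩ := exists_PE_of_dvd_relIndex hs hd
  by_cases htp : t = p
  · subst htp
    exfalso
    obtain ⟨k, hk⟩ := hty.orderOf_eq ht
    have := commute_of_cs_not_dvd (G := 𝒞[w]) (p := t) (fun u hu => by
      rw [cs_subgroup]
      rcases F.rel hw (mem_cent.1 u.2).symm (hpw.coprime (by rw [orderOf_coe]; exact hu.symm))
        with c | c <;> rw [c]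
      · exact ht.not_dvd_one
      · exact hpn) (x := ⟨y, hyC⟩) (y := ⟨v, hv⟩) (k := k) (by rwa [← orderOf_coe])
        (by rw [← orderOf_coe]; exact hsv.coprime ((Nat.coprime_primes hs ht).2 hsp))
    exact hvy (mem_cent.2 (congrArg Subtype.val this.eq).symm)
  · have hne : ¬ 𝒞[w] ≤ 𝒞[y] := fun c => hvy (c hv)
    rcases F.key hp hpw hw with H | ⟨r, hr, hrp, H⟩
    · obtain ⟨k, hk⟩ := H y hyC (hty.coprime ((Nat.coprime_primes ht hp).2 htp))
      rw [hk] at hd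
      exact absurd ((Nat.prime_dvd_prime_iff_eq hs hp).1 (hs.dvd_of_dvd_pow hd)) hsp
    · have htr : t = r := by
        by_contra c
        exact hne (H t ht htp c y hyC hty)
      by_contra c
      exact hvy (mem_cent_comm.1 (H s hs hsp (htr ▸ c) v hv hsv hyC))

omit [Finite G] in
theorem not_pow_dvd {p a : ℕ} (hp : p.Prime) (hm : m = p ^ a) (y : G) :
    ¬ p ^ (a + 1) ∣ cs(y) := by
  have ha : a ≠ 0 := fun c => F.hm.ne' (by rw [hm, c, pow_zero])
  have hpn := F.np hp (hm ▸ dvd_pow_self p ha)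
  have h1 : ¬ p ^ (a + 1) ∣ n * m := fun h => by
    rw [hm, pow_succ'] at h
    exact hpn (Nat.dvd_of_mul_dvd_mul_right (pow_pos hp.pos a) h)
  intro h
  apply h1
  rcases F.cases y with c | c | c | c <;> rw [c] at h
  · exact h.trans (one_dvd _)
  · exact h.mul_right _
  · exact h.mul_left _
  · exact h

theorem two {p : ℕ} (hp : p.Prime) (hpm : p ∣ m) {w : G} (hpw : PE p w) (hw : cs(w) = m) :
    Group.IsNilpotent G ∧ IsPrimePow n ∧ IsPrimePow m := by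
  obtain ⟨q, y, hq, hqy, hy⟩ := F.symm.exPE
  have hn0 : n ≠ 0 := by have := F.hn; omega
  have hm0 : m ≠ 0 := by have := F.hm; omega
  have en := Nat.eq_prime_pow_of_unique_prime_dvd (p := q) hn0 fun {s} hs hd =>
    F.two_a hp hpm hpw hw hq hqy hy hs hd
  generalize n.primeFactorsList.length = b at en
  have hb : b ≠ 0 := fun c => F.hn.ne' (by rw [en, c, pow_zero])
  have hqn : q ∣ n := en ▸ dvd_pow_self q hb
  have em := Nat.eq_prime_pow_of_unique_prime_dvd (p := p) hm0 fun {s} hs hd =>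
    F.symm.two_a hq hqn hqy hy hp hpw hw hs hd
  generalize m.primeFactorsList.length = a at em
  have ha : a ≠ 0 := fun c => F.hm.ne' (by rw [em, c, pow_zero])
  refine ⟨?_, ⟨q, b, hq.prime, Nat.pos_of_ne_zero hb, en.symm⟩,
    ⟨p, a, hp.prime, Nat.pos_of_ne_zero ha, em.symm⟩⟩
  have := Fact.mk hp
  have := Fact.mk hq
  obtain ⟨P, N, hN, hNP⟩ := S4127.result p a (F.not_pow_dvd hp em)
    ⟨w, hpw.orderOf_eq hp, hw.trans em⟩
  obtain ⟨Q, M, hM, hMQ⟩ := S4127.result q b (F.symm.not_pow_dvd hq en)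
    ⟨y, hqy.orderOf_eq hq, hy.trans en⟩
  have h1 : Group.IsNilpotent (G ⧸ N) :=
    (P.isPGroup'.of_equiv hNP.symm.QuotientMulEquiv.symm).isNilpotent
  have h2 : Group.IsNilpotent (G ⧸ M) :=
    (Q.isPGroup'.of_equiv hMQ.symm.QuotientMulEquiv.symm).isNilpotent
  refine Subgroup.isNilpotent_of_ker_le_center
    ((QuotientGroup.mk' N).prod (QuotientGroup.mk' M)) ?_
  rw [MonoidHom.ker_prod, QuotientGroup.ker_mk', QuotientGroup.ker_mk']
  refine le_of_forall_PE fun t ht v hv htv => ?_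
  have aux : ∀ {r : ℕ} [Fact r.Prime] (R : Sylow r G) {K : Subgroup G},
      K.IsComplement' (R : Subgroup G) → v ∈ K → PE r v → v = 1 := by
    intro r hr R K hK hvK hrv
    have hd : ¬ r ∣ Nat.card K := by rw [← hK.index_eq_card]; exact R.not_dvd_index
    have := (hrv.coprime ((Nat.Prime.coprime_iff_not_dvd hr.out).2 hd)).eq_one_of_dvd
      (K.orderOf_dvd_natCard hvK)
    exact orderOf_eq_one_iff.1 this
  by_cases c : t = p
  · rw [aux P hNP hv.1 (c ▸ htv)]; exact one_mem _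
  by_cases c' : t = q
  · rw [aux Q hMQ hv.2 (c' ▸ htv)]; exact one_mem _
  refine F.other ht (fun h => c' ?_) (fun h => c ?_) htv
  · exact (Nat.prime_dvd_prime_iff_eq ht hq).1 (ht.dvd_of_dvd_pow (en ▸ h))
  · exact (Nat.prime_dvd_prime_iff_eq ht hp).1 (ht.dvd_of_dvd_pow (em ▸ h))

omit F in
theorem rho_dvd {x g : G} (h : cs(x) ∣ cs(g)) :
    (center G).relIndex 𝒞[g] ∣ (center G).relIndex 𝒞[x] := by
  obtain ⟨k, hk⟩ := h
  have e1 := relIndex_mul_index (center_le_centralizer ({x} : Set G))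
  have e2 := relIndex_mul_index (center_le_centralizer ({g} : Set G))
  rw [← e1, hk] at e2
  refine ⟨k, Nat.eq_of_mul_eq_mul_right (cs_pos x) ?_⟩
  rw [← e2]; ring

theorem exA (HA : ∀ p : ℕ, p.Prime → p ∣ m → ∀ w : G, PE p w → cs(w) ≠ m) :
    ∃ (q : ℕ) (x : G), q.Prime ∧ q ∣ n ∧ PE q x ∧ cs(x) = m := by
  obtain ⟨s, x, hs, hsx, hx⟩ := F.exPE
  refine ⟨s, x, hs, ?_, hsx, hx⟩
  by_contra c
  exact F.nc hx.symm.dvd (F.other hs c (fun h => HA s hs h x hsx hx) hsx)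

theorem star (_HA : ∀ p : ℕ, p.Prime → p ∣ m → ∀ w : G, PE p w → cs(w) ≠ m)
    (HB : ∀ p : ℕ, p.Prime → p ∣ n → ∀ w : G, PE p w → cs(w) ≠ n) {x : G} (hx : cs(x) = m) :
    ∃ p : ℕ, p.Prime ∧ p ∣ m ∧ ∃ u ∈ 𝒞[x], PE p u ∧ u ∉ center G := by
  by_contra hcon
  push Not at hcon
  have h1 : ∀ g : G, m ∣ cs(g) → ∀ p : ℕ, p.Prime → p ∣ m → ∀ u ∈ 𝒞[g], PE p u →
      u ∈ center G := fun g hg p hp hpm u hu hpu => by
    by_contra c
    obtain ⟨v, hv, hpv, hvz⟩ := exists_PE_of_dvd_relIndex hp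
      ((dvd_relIndex_center hp hu hpu c).trans (rho_dvd (hx ▸ hg)))
    exact hvz (hcon p hp hpm v hv hpv)
  obtain ⟨p, y, hp, hpm, hpy, hy⟩ := F.symm.exA HB
  have hyz := F.symm.nc hy.symm.dvd
  obtain ⟨w, hw⟩ := F.exnm
  obtain ⟨t, ht, v, hv, htv, hvz⟩ := exists_PE_of_not_mem (F.nc (x := w) (hw ▸ dvd_mul_left m n))
  have hvw := zpowers_le_cent w hv
  by_cases c : t ∣ m
  · exact hvz (h1 w (hw ▸ dvd_mul_left m n) t ht c v hvw htv)
  by_cases c' : t ∣ n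
  · obtain ⟨u, hu, htu, huz⟩ := exists_PE_of_dvd_relIndex ht
      ((dvd_relIndex_center ht hvw htv hvz).trans
        (rho_dvd (x := y) (by rw [hy, hw]; exact dvd_mul_right n m)))
    refine hyz (h1 u ?_ p hp hpm y (mem_cent_comm.1 hu) hpy)
    rcases F.cases u with d | d | d | d
    · exact absurd (cs_eq_one_iff.1 d) huz
    · exact absurd d (HB t ht c' u htu)
    · exact d.symm.dvd
    · exact d ▸ dvd_mul_left m n
  · exact hvz (F.other ht c' c htv)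

theorem pp (HA : ∀ p : ℕ, p.Prime → p ∣ m → ∀ w : G, PE p w → cs(w) ≠ m)
    (HB : ∀ p : ℕ, p.Prime → p ∣ n → ∀ w : G, PE p w → cs(w) ≠ n) :
    ∃ q a : ℕ, q.Prime ∧ n = q ^ a := by
  obtain ⟨q, x, hq, hqn, hqx, hx⟩ := F.exA HA
  obtain ⟨p, hp, hpm, u, hu, hpu, huz⟩ := F.star HA HB hx
  have hpq : p ≠ q := fun c => F.np hp hpm (c ▸ hqn)
  have hne : ¬ 𝒞[x] ≤ 𝒞[u] := fun c =>
    HA p hp hpm u hpu (F.of_dvd (hx ▸ index_dvd_of_le c) huz)
  have hrel : (𝒞[u]).relIndex 𝒞[x] = n :=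
    (F.rel hx (mem_cent.1 hu).symm (PE.coprime_orderOf hq hp hpq.symm hqx hpu)).resolve_left
      fun c => hne (relIndex_eq_one.1 c)
  rcases F.key hq hqx hx with H | ⟨r, hr, hrq, H⟩
  · obtain ⟨k, hk⟩ := H u hu (hpu.coprime ((Nat.coprime_primes hp hq).2 hpq))
    exact ⟨q, k, hq, hrel ▸ hk⟩
  · have hpr : p = r := by
      by_contra c
      exact hne (H p hp hpq c u hu hpu)
    refine ⟨q, _, hq, Nat.eq_prime_pow_of_unique_prime_dvd (by have := F.hn; omega)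
      fun {s} hs hd => ?_⟩
    by_contra c
    obtain ⟨v, hv, hsv, hvu⟩ := exists_PE_of_dvd_relIndex hs (hrel ▸ hd)
    exact hvu (mem_cent_comm.1 (H s hs c (fun e => F.np hp hpm (hpr ▸ e ▸ hd)) v hv hsv hu))

end FS

end Cfsg.Agent.H4.Cs
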