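import Cfsg.Agent.H4.CsB
import Cfsg.Agent.S4125

set_option autoImplicit false

/-! Conjugate type `(nm, m, n, 1)`: the crossed prime-power case does not occur. -/

namespace Cfsg.Agent.H4.Cs

open Subgroup H83 H8
open scoped Pointwise

variable {G : Type*} [Group G] [Finite G] {n m p q : ℕ}

local notation "𝒞[" x "]" => Subgroup.centralizer {x}

theorem rel_of_coprime {H P D : Subgroup G} (hP : P ≤ D)
    (h : (H.relIndex D).Coprime (P.relIndex D)) : H.relIndex P = H.relIndex D := by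
  have e1 := H1.index_inf_of_coprime (H.subgroupOf D) (P.subgroupOf D) h
  have e2 := relIndex_mul_index
    (inf_le_right : H.subgroupOf D ⊓ P.subgroupOf D ≤ P.subgroupOf D)
  rw [inf_relIndex_right, relIndex_subgroupOf hP, e1] at e2
  exact Nat.eq_of_mul_eq_mul_right (Nat.pos_of_ne_zero index_ne_zero_of_finite) e2

omit [Finite G] in
theorem eq_one_of_PE (hp : p.Prime) (hq : q.Prime) (hpq : p ≠ q) {z w : G} (hz : PE p z)
    (hw : PE q w) (h : w ^ orderOf z = 1) : w = 1 :=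
  orderOf_eq_one_iff.1 ((PE.coprime_orderOf hq hp hpq.symm hw hz).eq_one_of_dvd
    (orderOf_dvd_of_pow_eq_one h))

structure CI (G : Type*) [Group G] (p q n m : ℕ) : Prop where
  F : FS G n m
  hp : p.Prime
  hq : q.Prime
  em : ∃ b, m = p ^ b
  en : ∃ a, n = q ^ a
  HA : ∀ s : ℕ, s.Prime → s ∣ m → ∀ w : G, PE s w → cs(w) ≠ m
  HB : ∀ s : ℕ, s.Prime → s ∣ n → ∀ w : G, PE s w → cs(w) ≠ n

namespace CI

variable (C : CI G p q n m)
include C

omit [Finite G] in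
theorem symm : CI G q p m n := ⟨C.F.symm, C.hq, C.hp, C.en, C.em, C.HB, C.HA⟩

omit [Finite G] in
theorem eq_p {s : ℕ} (hs : s.Prime) (h : s ∣ m) : s = p := by
  obtain ⟨b, hb⟩ := C.em
  exact (Nat.prime_dvd_prime_iff_eq hs C.hp).1 (hs.dvd_of_dvd_pow (hb ▸ h))

omit [Finite G] in
theorem pm : p ∣ m := by
  obtain ⟨s, hs, h⟩ := Nat.exists_prime_and_dvd C.F.hm.ne'
  exact C.eq_p hs h ▸ h

omit [Finite G] in
theorem pn : ¬ p ∣ n := C.F.np C.hp C.pm

omit [Finite G] in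
theorem pq : p ≠ q := fun h => C.pn (h ▸ C.symm.pm)

theorem oth (t : ℕ) (ht : t.Prime) (h1 : t ≠ p) (h2 : t ≠ q) (v : G) (hv : PE t v) :
    v ∈ center G :=
  C.F.other ht (fun h => h2 (C.symm.eq_p ht h)) (fun h => h1 (C.eq_p ht h)) hv

theorem exA : ∃ x : G, PE q x ∧ cs(x) = m := by
  obtain ⟨s, x, hs, h, hsx, hx⟩ := C.F.exA C.HA
  exact ⟨x, C.symm.eq_p hs h ▸ hsx, hx⟩

theorem star {x : G} (hx : cs(x) = m) : ∃ u ∈ 𝒞[x], PE p u ∧ u ∉ center G := by
  obtain ⟨s, hs, h, u, hu, hsu, huz⟩ := C.F.star C.HA C.HB hx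
  exact ⟨u, hu, C.eq_p hs h ▸ hsu, huz⟩

omit [Finite G] in
theorem pe {u : G} (hu : PE p u) (huz : u ∉ center G) : cs(u) = n ∨ cs(u) = n * m := by
  rcases C.F.cases u with c | c | c | c
  · exact absurd (cs_eq_one_iff.1 c) huz
  · exact .inl c
  · exact absurd c (C.HA p C.hp C.pm u hu)
  · exact .inr c

omit [Finite G] in
theorem relD {y v : G} (hpy : PE p y) (hy : cs(y) = n) (hv : v ∈ 𝒞[y]) (hqv : PE q v)
    (hvz : v ∉ center G) : (𝒞[v]).relIndex 𝒞[y] = m :=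
  (C.F.symm.rel hy (mem_cent.1 hv).symm
    (PE.coprime_orderOf C.hp C.hq C.pq hpy hqv)).resolve_left fun c =>
      C.HB q C.hq C.symm.pm v hqv
        (C.F.symm.of_dvd (hy ▸ index_dvd_of_le (relIndex_eq_one.1 c)) hvz)

theorem core_le {y : G} (hy : cs(y) = n) : pCore p G ≤ 𝒞[y] :=
  le_of_not_dvd C.hp H44.pCore_isPGroup le_top (by rw [relIndex_top_right, hy]; exact C.pn)

theorem ineq (hV : ¬ pCore q G ≤ center G) {y : G} (hpy : PE p y) (hy : cs(y) = n)
    (hVy : pCore q G ≤ 𝒞[y]) : m < n := by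
  have := Fact.mk C.hp
  have := Fact.mk C.hq
  have hqV : ∀ v ∈ pCore q G, PE q v := fun v hv => PE.of_mem H44.pCore_isPGroup hv
  have h1 : ∀ v ∈ pCore q G, v ∉ center G → (𝒞[v]).relIndex 𝒞[y] = m := fun v hv hz =>
    C.relD hpy hy (hVy hv) (hqV v hv) hz
  have hc : ∀ a ∈ pCore q G, ∀ b ∈ pCore q G, Commute a b := fun a ha b hb => by
    by_cases c : b ∈ center G
    · exact mem_center_iff.1 c a
    · exact mem_cent.1 (le_of_not_dvd C.hq H44.pCore_isPGroup hVy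
        (by rw [h1 b hb c]; exact C.symm.pn) ha)
  obtain ⟨P, hP⟩ := (not_dvd_index_iff (p := p) (H := 𝒞[y])).1 (hy ▸ C.pn)
  have h2 : ∀ v ∈ pCore q G, v ∉ center G → (𝒞[v]).relIndex P = m := fun v hv hz => by
    rw [rel_of_coprime hP, h1 v hv hz]
    rw [h1 v hv hz]
    obtain ⟨b, hb⟩ := C.em
    rw [hb]
    refine Nat.Coprime.pow_left _ ((Nat.Prime.coprime_iff_not_dvd C.hp).2 fun h => ?_)
    exact P.not_dvd_index (h.trans (Dvd.intro _ (relIndex_mul_index hP)))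
  obtain ⟨v, hv, hvz⟩ := SetLike.not_le_iff_exists.1 hV
  obtain ⟨z, hz, ⟨v₀, hv₀, hne⟩, hzP⟩ := exists_z C.hp (V := pCore q G) P.isPGroup' fun h => by
    have := h2 v hv hvz
    rw [relIndex_eq_one.2 fun g hg => mem_cent.2 (h hg v hv).symm] at this
    exact C.F.hm.ne this
  have hpz : PE p z := PE.of_mem P.isPGroup' hz
  have h3 := (sr hc hz (fun w hw => eq_one_of_PE C.hp C.hq C.pq hpz (hqV w hw)) hzP h2 hv₀ hne).2
  have h4 : (𝒞[z]).relIndex (pCore q G) ∣ n * m := by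
    refine (H19.relIndex_dvd_index_of_normal_right _ _).trans ?_
    rcases C.pe hpz (fun c => hne (mem_center_iff.1 c v₀).symm) with c | c <;> rw [c]
    exact dvd_mul_right n m
  obtain ⟨k, hk⟩ := IsPGroup.iff_card.1 (H44.pCore_isPGroup (p := q) (G := G))
  have h5 : ((𝒞[z]).relIndex (pCore q G)).Coprime m :=
    (((Nat.Prime.coprime_iff_not_dvd C.hq).2 C.symm.pn).pow_left k).coprime_dvd_left
      (hk ▸ relIndex_dvd_card _ _)
  exact h3.trans_le (Nat.le_of_dvd (by have := C.F.hn; omega) (h5.dvd_of_dvd_mul_right h4))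

theorem y1 (hU : ¬ pCore p G ≤ center G) :
    ∃ y : G, PE p y ∧ cs(y) = n ∧ pCore q G ≤ 𝒞[y] := by
  have := Fact.mk C.hp
  have := Fact.mk C.hq
  obtain ⟨u, hu, huz⟩ := SetLike.not_le_iff_exists.1 hU
  have hpu : PE p u := PE.of_mem H44.pCore_isPGroup hu
  have hc : ∀ v ∈ pCore q G, Commute u v := fun v hv =>
    commute_of_normal_of_disjoint _ _ inferInstance inferInstance
      (IsPGroup.disjoint_of_ne p q C.pq _ _ H44.pCore_isPGroup H44.pCore_isPGroup) u v hu hv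
  rcases C.pe hpu huz with c | c
  · exact ⟨u, hpu, c, fun v hv => mem_cent.2 (hc v hv).symm.eq⟩
  · obtain ⟨y, hpy, hy⟩ := C.symm.exA
    exact ⟨y, hpy, hy, fun v hv => mem_cent_comm.1 (C.F.top c (hc v hv)
      (PE.coprime_orderOf C.hp C.hq C.pq hpu (PE.of_mem H44.pCore_isPGroup hv))
      (mem_cent_comm.1 (C.core_le hy hu)))⟩

theorem x2 {x : G} (hqx : PE q x) (hx : cs(x) = m) :
    ∃ y : G, PE p y ∧ cs(y) = n ∧ Commute x y := by
  obtain ⟨u, hu, hpu, huz⟩ := C.star hx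
  rcases C.pe hpu huz with c | c
  · exact ⟨u, hpu, c, (mem_cent.1 hu).symm⟩
  · obtain ⟨y, hpy, hy⟩ := C.symm.exA
    obtain ⟨k, -, hk⟩ := exists_conj_mem_of_not_dvd (le_top : 𝒞[y] ≤ ⊤) C.hp
      (by rw [relIndex_top_right, hy]; exact C.pn) (mem_top u) hpu
    refine ⟨k⁻¹ * y * k⁻¹⁻¹, hpy.conj _, by rw [cs_conj, hy], (mem_cent.1 (C.F.top c
      (mem_cent.1 hu) (PE.coprime_orderOf C.hp C.hq C.pq hpu hqx) (mem_cent.2 ?_))).symm⟩
    have := mem_cent.1 hk
    calc k⁻¹ * y * k⁻¹⁻¹ * u = k⁻¹ * (y * (k * u * k⁻¹)) * k := by group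
      _ = k⁻¹ * ((k * u * k⁻¹) * y) * k := by rw [this]
      _ = _ := by group

theorem caseX (hV : pCore q G ≤ center G) : False := by
  have := Fact.mk C.hp
  have := Fact.mk C.hq
  have := solvable_of_two C.hp C.hq C.oth
  have h : ∀ t : ℕ, t.Prime → t ≠ p → pCore t G ≤ center G := fun t ht htp => by
    by_cases c : t = q
    · exact c ▸ hV
    · exact fun v hv => C.oth t ht htp c v (PE.of_mem H44.pCore_isPGroup hv)
  set U := pCore p G with hU
  have hpU : ∀ u ∈ U, PE p u := fun v hv => PE.of_mem H44.pCore_isPGroup hv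
  obtain ⟨x, hqx, hx⟩ := C.exA
  have hxz : x ∉ center G := C.F.nc hx.symm.dvd
  obtain ⟨u₁, hu₁, hne⟩ : ∃ u ∈ U, ¬ Commute x u := by
    by_contra c
    push Not at c
    exact hxz (mem_center_of_cent C.hp C.hq C.pq h hqx c)
  obtain ⟨y, hpy, hy, hxy⟩ := C.x2 hqx hx
  have hyU : y ∈ U := mem_pCore_of_cent h hpy fun u hu => (mem_cent.1 (C.core_le hy hu)).symm
  have hyz : y ∉ center G := C.F.symm.nc hy.symm.dvd
  obtain ⟨u₀, hu₀, hT⟩ : ∃ u ∈ U, cs(u) = n * m := by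
    by_contra c
    push Not at c
    have h1 : ∀ u ∈ U, u ∉ center G → cs(u) = n := fun u hu hz =>
      (C.pe (hpU u hu) hz).resolve_right (c u hu)
    refine hyz ((sr (V := U) (P := 𝒞[x]) (k := n) (fun a ha b hb => ?_) (self_mem_cent x)
      (fun w hw => eq_one_of_PE C.hq C.hp C.pq.symm hqx (hpU w hw)) (fun g hg v _ => ?_)
      (fun v hv hz => ?_) hu₁ hne).1 y hyU hxy)
    · by_cases d : b ∈ center G
      · exact mem_center_iff.1 d a
      · exact mem_cent.1 (C.core_le (h1 b hb d) ha)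
    · have := mem_cent.1 hg
      calc g * (x * v * x⁻¹) * g⁻¹ = (g * x) * v * (g * x)⁻¹ := by group
        _ = _ := by rw [this]; group
    · rw [rel_of_coprime le_top, relIndex_top_right, h1 v hv hz]
      rw [relIndex_top_right, relIndex_top_right, h1 v hv hz, hx]
      exact C.F.cop
  set W := U ⊓ centralizer (U : Set G) with hW
  set L := centralizer (W : Set G) with hL
  have hLn : L.Normal := inferInstance
  have hUL : U ≤ L := fun u hu w hw => (hw.2 u hu).symm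
  have hBW : ∀ u ∈ U, cs(u) = n → u ∈ W := fun u hu c =>
    ⟨hu, fun w hw => mem_cent.1 (C.core_le c hw)⟩
  have hLD : L ≤ 𝒞[y] := fun g hg => mem_cent.2 (hg y (hBW y hyU hy)).symm
  have hT' : ∀ u ∈ U, cs(u) = n * m →
      ¬ q ∣ (𝒞[u]).relIndex L ∧ ¬ q ∣ L.relIndex 𝒞[y] := fun u hu c => by
    have h1 : ¬ q ∣ L.relIndex 𝒞[u] := fun hd => by
      obtain ⟨v, hv, hqv, hvL⟩ := exists_PE_of_dvd_relIndex C.hq hd
      exact hvL fun w hw => mem_cent.1 (C.F.top c (mem_cent.1 hv).symm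
        (PE.coprime_orderOf C.hp C.hq C.pq (hpU u hu) hqv) (mem_cent.2 (hw.2 u hu).symm))
    have e1 := relIndex_mul_index (inf_le_right : L ⊓ 𝒞[u] ≤ 𝒞[u])
    have e2 := relIndex_mul_index (inf_le_left : L ⊓ 𝒞[u] ≤ L)
    have e3 := relIndex_mul_index hLD
    rw [inf_relIndex_right, c] at e1
    rw [inf_relIndex_left, ← e1, ← e3, hy] at e2
    have e4 : (𝒞[u]).relIndex L * L.relIndex 𝒞[y] = L.relIndex 𝒞[u] * m :=
      Nat.eq_of_mul_eq_mul_right (show 0 < n by have := C.F.hn; omega) (by linarith)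
    have h2 : ¬ q ∣ (𝒞[u]).relIndex L * L.relIndex 𝒞[y] := fun hd =>
      ((Nat.Prime.dvd_mul C.hq).1 (e4 ▸ hd)).elim h1 C.symm.pn
    exact ⟨fun hd => h2 (hd.mul_right _), fun hd => h2 (hd.mul_left _)⟩
  have hxL : x ∈ L := by
    by_contra c
    exact (hT' u₀ hu₀ hT).2 (dvd_relIndex_of_PE (by rw [normalizer_eq_top]; exact le_top) C.hq
      (mem_cent.2 hxy.eq) hqx c)
  obtain ⟨b, hb⟩ := C.em
  have hpow : ∀ v : L, PE q v → ∃ a, cs(v) = p ^ a := fun v hv => by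
    by_cases c : (v : G) ∈ center G
    · refine ⟨0, cs_eq_one_iff.2 (mem_center_iff.2 fun g => Subtype.ext ?_)⟩
      exact mem_center_iff.1 c g
    · have := rel_dvd (H := 𝒞[(v : G)]) hLD
      rw [C.relD hpy hy (hLD v.2) (PE.coe.2 hv) c, hb, ← cs_subgroup] at this
      obtain ⟨a, -, ha⟩ := (Nat.dvd_prime_pow C.hp).1 this
      exact ⟨a, ha⟩
  set x' : L := ⟨x, hxL⟩ with hx'
  have hqx' : PE q x' := PE.coe.1 hqx
  obtain ⟨Q, hQ⟩ := hqx'.isPGroup_zpowers.exists_le_sylow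
  have hxQ : x' ∈ (Q : Subgroup L) := hQ (mem_zpowers x')
  have hqL : q ∣ Nat.card L := by
    obtain ⟨k, hk⟩ := hqx'.orderOf_eq C.hq
    refine (hk ▸ dvd_pow_self q fun c => ?_ : q ∣ orderOf x').trans (orderOf_dvd_natCard x')
    rw [c, pow_zero, orderOf_eq_one_iff] at hk
    exact hxz ((show x = 1 from congrArg Subtype.val hk) ▸ one_mem _)
  obtain ⟨-, r, hr, h1, -, h2⟩ := S4125.result q hqL (fun v ⟨k, hk⟩ =>
    (hpow v (PE.of_orderOf hk)).elim fun a ha => ⟨p, a, C.hp, ha⟩) Q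
  obtain rfl : r = p := by
    obtain ⟨a, ha⟩ := h1 x' (hqx'.orderOf_eq C.hq)
    obtain ⟨a', ha'⟩ := hpow x' hqx'
    have ha0 : a ≠ 0 := fun c => by
      rw [c, pow_zero, cs_eq_one_iff] at ha
      exact hne (congrArg Subtype.val (mem_center_iff.1 ha ⟨u₁, hUL hu₁⟩)).symm
    exact (Nat.prime_dvd_prime_iff_eq hr C.hp).1
      (hr.dvd_of_dvd_pow (ha' ▸ ha ▸ dvd_pow_self r ha0))
  have hN := (h2 C.pq).2.1
  have hfr : normalizer ((Q : Subgroup L) : Set L) ⊔ pCore r L = ⊤ := by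
    have := Sylow.normalizer_sup_eq_top' (N := pCore r L ⊔ Q) Q le_sup_right
    rw [eq_top_iff, ← this]
    exact sup_le le_sup_left (sup_le le_sup_right (le_normalizer.trans le_sup_left))
  have hcore : ∀ t ∈ pCore r L, (t : G) ∈ U := fun t ht =>
    H44.le_pCore (H44.pCoreOf_normal L) (H44.pCoreOf_isPGroup L) (mem_map_of_mem L.subtype ht)
  have hfin : 𝒞[x] ⊓ U = U := eq_of_forall_conj_mem inf_le_right fun u hu => by
    by_cases c : cs(u) = n * m
    · obtain ⟨S, hS⟩ := (not_dvd_index_iff (p := q) (H := (𝒞[u]).subgroupOf L)).1 (hT' u hu c).1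
      obtain ⟨g, rfl⟩ := MulAction.exists_smul_eq L Q S
      obtain ⟨t, ht, k, hk, rfl⟩ := H19.mem_sup_normal_left.1
        (show g ∈ pCore r L ⊔ normalizer ((Q : Subgroup L) : Set L) by
          rw [sup_comm, hfr]; exact mem_top g)
      have h3 : t * x' * t⁻¹ ∈ (((t * k) • Q : Sylow q L) : Subgroup L) := by
        rw [Sylow.coe_subgroup_smul, H2.mem_conj_smul]
        have := H2.inv_conj_mem_of_mem_normalizer hk hxQ
        convert this using 1
        group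
      have h4 : (t : G) * x * (t : G)⁻¹ * u = u * ((t : G) * x * (t : G)⁻¹) :=
        mem_cent.1 (mem_subgroupOf.1 (hS h3))
      refine ⟨(t : G)⁻¹, inv_mem (hcore t ht), mem_cent.2 ?_,
        (inferInstance : U.Normal).conj_mem u hu _⟩
      calc (t : G)⁻¹ * u * (t : G)⁻¹⁻¹ * x
          = (t : G)⁻¹ * (u * ((t : G) * x * (t : G)⁻¹)) * t := by group
        _ = (t : G)⁻¹ * ((t : G) * x * (t : G)⁻¹ * u) * t := by rw [h4]
        _ = _ := by group
    · refine ⟨1, one_mem _, ?_⟩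
      rw [one_mul, inv_one, mul_one]
      refine ⟨?_, hu⟩
      by_cases d : u ∈ center G
      · exact mem_cent.2 (mem_center_iff.1 d x).symm
      · exact mem_cent.2 (hxL u (hBW u hu ((C.pe (hpU u hu) d).resolve_right c)))
  exact hne (mem_cent.1 (hfin.ge hu₁).1).symm

theorem false : False := by
  by_cases hV : pCore q G ≤ center G
  · exact C.caseX hV
  by_cases hU : pCore p G ≤ center G
  · exact C.symm.caseX hU
  obtain ⟨y, hpy, hy, hVy⟩ := C.y1 hU
  obtain ⟨x, hqx, hx, hUx⟩ := C.symm.y1 hV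
  exact lt_asymm (C.ineq hV hpy hy hVy) (C.symm.ineq hU hqx hx hUx)

end CI

theorem FS.main (F : FS G n m) : Group.IsNilpotent G ∧ IsPrimePow n ∧ IsPrimePow m := by
  by_cases HA : ∀ s : ℕ, s.Prime → s ∣ m → ∀ w : G, PE s w → cs(w) ≠ m
  · by_cases HB : ∀ s : ℕ, s.Prime → s ∣ n → ∀ w : G, PE s w → cs(w) ≠ n
    · obtain ⟨q, a, hq, en⟩ := F.pp HA HB
      obtain ⟨p, b, hp, em⟩ := F.symm.pp HB HA
      exact (CI.false ⟨F, hp, hq, ⟨b, em⟩, ⟨a, en⟩, HA, HB⟩).elim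
    · push Not at HB
      obtain ⟨s, hs, h, w, hsw, hw⟩ := HB
      obtain ⟨h1, h2, h3⟩ := F.symm.two hs h hsw hw
      exact ⟨h1, h3, h2⟩
  · push Not at HA
    obtain ⟨s, hs, h, w, hsw, hw⟩ := HA
    exact F.two hs h hsw hw

end Cfsg.Agent.H4.Cs
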